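import Mathlib.RingTheory.AdicCompletion.Algebra
import Mathlib.RingTheory.DividedPowers.DPMorphism

/-!
# Divided powers on the kernel of `A^∧ → A/I`
-/

set_option autoImplicit false
universe u

open Finset

namespace Groth.Agent.H27DPow

variable {A : Type u} [CommRing A] {I : Ideal A} (γ : DividedPowers I) (a : A) (t : ℕ)
  (ht : Ideal.span {a} ^ t ≤ I)

include ht in
theorem dpow_sub_mem {x y : A} (hx : x ∈ I) (hy : y ∈ I) {j : ℕ}
    (h : x - y ∈ Ideal.span {a} ^ (j + t)) (n : ℕ) :
    γ.dpow n x - γ.dpow n y ∈ Ideal.span {a} ^ j := by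
  rw [Ideal.span_singleton_pow, Ideal.mem_span_singleton] at h
  obtain ⟨z, hz⟩ := h
  have hw : a ^ t * z ∈ I := ht (by
    rw [Ideal.span_singleton_pow]
    exact Ideal.mem_span_singleton.mpr ⟨z, rfl⟩)
  have hxy : x = y + a ^ j * (a ^ t * z) := by
    rw [← mul_assoc, ← pow_add, ← hz]
    ring
  rw [Ideal.span_singleton_pow, Ideal.mem_span_singleton]
  rw [hxy, γ.dpow_add hy (I.mul_mem_left _ hw)]
  rw [Finset.sum_eq_add_sum_sdiff_singleton_of_mem (i := (n, 0))
    (Finset.HasAntidiagonal.mem_antidiagonal.mpr (by simp))]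
  rw [γ.dpow_zero (I.mul_mem_left _ hw), mul_one, add_sub_cancel_left]
  refine Finset.dvd_sum fun k hk => ?_
  rw [Finset.mem_sdiff, Finset.HasAntidiagonal.mem_antidiagonal, Finset.mem_singleton] at hk
  have hk2 : k.2 ≠ 0 := fun h0 => hk.2 (by ext <;> simp_all)
  rw [γ.dpow_mul hw]
  exact Dvd.dvd.mul_left (Dvd.dvd.mul_right (dvd_pow_self _ hk2) _) _

/-- A chosen Cauchy sequence representing an element of the completion. -/
noncomputable def complRep (ξ : AdicCompletion (Ideal.span {a}) A) : ℕ → A :=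
  (Classical.choose (AdicCompletion.mk_surjective (Ideal.span {a}) A ξ)).val

theorem evalₐ_eq_complRep (ξ : AdicCompletion (Ideal.span {a}) A) (j : ℕ) :
    AdicCompletion.evalₐ (Ideal.span {a}) j ξ = Ideal.Quotient.mk _ (complRep a ξ j) := by
  conv_lhs => rw [← Classical.choose_spec (AdicCompletion.mk_surjective (Ideal.span {a}) A ξ)]
  rw [AdicCompletion.evalₐ_mk]
  rfl

theorem complRep_sub_mem (ξ : AdicCompletion (Ideal.span {a}) A) {i j : ℕ} (hij : i ≤ j) :
    complRep a ξ j - complRep a ξ i ∈ Ideal.span {a} ^ i :=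
  Ideal.Quotient.eq.mp (AdicCompletion.Ideal.mk_eq_mk (Ideal.span {a}) hij
    (Classical.choose (AdicCompletion.mk_surjective (Ideal.span {a}) A ξ)))

/-- The projection `A^∧ → A/I`. -/
noncomputable def complProj : AdicCompletion (Ideal.span {a}) A →+* A ⧸ I :=
  (Ideal.Quotient.factor ht).comp (AdicCompletion.evalₐ (Ideal.span {a}) t).toRingHom

theorem complRep_mem {ξ : AdicCompletion (Ideal.span {a}) A}
    (hξ : ξ ∈ RingHom.ker (complProj a t ht)) (j : ℕ) : complRep a ξ (j + t) ∈ I := by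
  have h1 : complRep a ξ t ∈ I := by
    have h2 : complProj a t ht ξ = 0 := hξ
    rw [complProj, RingHom.comp_apply] at h2
    change Ideal.Quotient.factor ht (AdicCompletion.evalₐ _ t ξ) = 0 at h2
    rwa [evalₐ_eq_complRep, Ideal.Quotient.factor_mk, Ideal.Quotient.eq_zero_iff_mem] at h2
  have h3 := ht (complRep_sub_mem a ξ (show t ≤ j + t by omega))
  simpa using I.add_mem h3 h1

theorem mem_ker_complProj_iff {ξ : AdicCompletion (Ideal.span {a}) A} :
    ξ ∈ RingHom.ker (complProj a t ht) ↔ complRep a ξ t ∈ I := by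
  rw [RingHom.mem_ker, complProj, RingHom.comp_apply]
  change Ideal.Quotient.factor ht (AdicCompletion.evalₐ _ t ξ) = 0 ↔ _
  rw [evalₐ_eq_complRep, Ideal.Quotient.factor_mk, Ideal.Quotient.eq_zero_iff_mem]

open Classical in
/-- Divided powers on the completion. -/
noncomputable def complDpow (n : ℕ) (ξ : AdicCompletion (Ideal.span {a}) A) :
    AdicCompletion (Ideal.span {a}) A :=
  if hξ : ξ ∈ RingHom.ker (complProj a t ht) then
    AdicCompletion.mk (Ideal.span {a}) A
      ⟨fun j => γ.dpow n (complRep a ξ (j + t)), fun {i j} hij => by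
        rw [SModEq.sub_mem, smul_eq_mul, Ideal.mul_top]
        apply dpow_sub_mem γ a t ht (complRep_mem a t ht hξ i) (complRep_mem a t ht hξ j)
        rw [← neg_sub]
        exact neg_mem (complRep_sub_mem a ξ (by omega))⟩
  else 0

theorem evalₐ_complDpow {ξ : AdicCompletion (Ideal.span {a}) A}
    (hξ : ξ ∈ RingHom.ker (complProj a t ht)) (n : ℕ) {j : ℕ} {y : A} (hy : y ∈ I)
    (hyξ : AdicCompletion.evalₐ (Ideal.span {a}) (j + t) ξ = Ideal.Quotient.mk _ y) :
    AdicCompletion.evalₐ (Ideal.span {a}) j (complDpow γ a t ht n ξ)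
      = Ideal.Quotient.mk _ (γ.dpow n y) := by
  rw [complDpow, dif_pos hξ, AdicCompletion.evalₐ_mk, Ideal.Quotient.eq]
  rw [evalₐ_eq_complRep, Ideal.Quotient.eq] at hyξ
  exact dpow_sub_mem γ a t ht (complRep_mem a t ht hξ j) hy hyξ n

theorem evalₐ_complDpow' {ξ : AdicCompletion (Ideal.span {a}) A}
    (hξ : ξ ∈ RingHom.ker (complProj a t ht)) (n j : ℕ) :
    AdicCompletion.evalₐ (Ideal.span {a}) j (complDpow γ a t ht n ξ)
      = Ideal.Quotient.mk _ (γ.dpow n (complRep a ξ (j + t))) :=
  evalₐ_complDpow γ a t ht hξ n (complRep_mem a t ht hξ j) (evalₐ_eq_complRep a ξ _)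

theorem complDpow_mem {ξ : AdicCompletion (Ideal.span {a}) A}
    (hξ : ξ ∈ RingHom.ker (complProj a t ht)) {n : ℕ} (hn : n ≠ 0) :
    complDpow γ a t ht n ξ ∈ RingHom.ker (complProj a t ht) := by
  rw [RingHom.mem_ker, complProj, RingHom.comp_apply]
  change Ideal.Quotient.factor ht (AdicCompletion.evalₐ _ t _) = 0
  rw [evalₐ_complDpow' γ a t ht hξ, Ideal.Quotient.factor_mk, Ideal.Quotient.eq_zero_iff_mem]
  exact γ.dpow_mem hn (complRep_mem a t ht hξ t)

/-- The divided power structure on the kernel of `A^∧ → A/I`. -/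
noncomputable def complDP : DividedPowers (RingHom.ker (complProj a t ht)) where
  dpow := complDpow γ a t ht
  dpow_null h := dif_neg h
  dpow_zero {ξ} hξ := AdicCompletion.ext_evalₐ fun j => by
    rw [evalₐ_complDpow' γ a t ht hξ, γ.dpow_zero (complRep_mem a t ht hξ j), map_one, map_one]
  dpow_one {ξ} hξ := AdicCompletion.ext_evalₐ fun j => by
    rw [evalₐ_complDpow' γ a t ht hξ, γ.dpow_one (complRep_mem a t ht hξ j), evalₐ_eq_complRep,
      Ideal.Quotient.eq]
    exact complRep_sub_mem a ξ (by omega)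
  dpow_mem hn hξ := complDpow_mem γ a t ht hξ hn
  dpow_add {n ξ η} hξ hη := AdicCompletion.ext_evalₐ fun j => by
    have h1 : AdicCompletion.evalₐ (Ideal.span {a}) (j + t) (ξ + η)
        = Ideal.Quotient.mk _ (complRep a ξ (j + t) + complRep a η (j + t)) := by
      rw [map_add, map_add, evalₐ_eq_complRep, evalₐ_eq_complRep]
    rw [evalₐ_complDpow γ a t ht (Ideal.add_mem _ hξ hη) n
        (I.add_mem (complRep_mem a t ht hξ j) (complRep_mem a t ht hη j)) h1,
      γ.dpow_add (complRep_mem a t ht hξ j) (complRep_mem a t ht hη j), map_sum, map_sum]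
    exact Finset.sum_congr rfl fun k _ => by
      rw [map_mul, map_mul, evalₐ_complDpow' γ a t ht hξ, evalₐ_complDpow' γ a t ht hη]
  dpow_mul {n r ξ} hξ := AdicCompletion.ext_evalₐ fun j => by
    have h1 : AdicCompletion.evalₐ (Ideal.span {a}) (j + t) (r * ξ)
        = Ideal.Quotient.mk _ (complRep a r (j + t) * complRep a ξ (j + t)) := by
      rw [map_mul, map_mul, evalₐ_eq_complRep, evalₐ_eq_complRep]
    rw [evalₐ_complDpow γ a t ht (Ideal.mul_mem_left _ _ hξ) n
        (I.mul_mem_left _ (complRep_mem a t ht hξ j)) h1,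
      γ.dpow_mul (complRep_mem a t ht hξ j), map_mul, map_mul, map_pow, map_pow,
      evalₐ_complDpow' γ a t ht hξ, evalₐ_eq_complRep]
    congr 2
    rw [Ideal.Quotient.eq]
    exact complRep_sub_mem a r (by omega)
  mul_dpow {m n ξ} hξ := AdicCompletion.ext_evalₐ fun j => by
    rw [map_mul, map_mul, map_natCast, evalₐ_complDpow' γ a t ht hξ,
      evalₐ_complDpow' γ a t ht hξ, evalₐ_complDpow' γ a t ht hξ,
      ← map_mul, γ.mul_dpow (complRep_mem a t ht hξ j), map_mul, map_natCast]
  dpow_comp {m n ξ} hn hξ := AdicCompletion.ext_evalₐ fun j => by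
    have hy := complRep_mem a t ht hξ (j + t)
    rw [evalₐ_complDpow γ a t ht (complDpow_mem γ a t ht hξ hn) m (γ.dpow_mem hn hy)
        (evalₐ_complDpow' γ a t ht hξ n (j + t)),
      γ.dpow_comp hn hy, map_mul, map_mul, map_natCast, map_natCast]
    congr 1
    refine (evalₐ_complDpow γ a t ht hξ (m * n) hy ?_).symm
    rw [evalₐ_eq_complRep, Ideal.Quotient.eq, ← neg_sub]
    exact neg_mem (complRep_sub_mem a ξ (by omega))

theorem isDPMorphism_complDP :
    γ.IsDPMorphism (complDP γ a t ht) (algebraMap A (AdicCompletion (Ideal.span {a}) A)) := by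
  have hev : ∀ (i : ℕ) (x : A),
      AdicCompletion.evalₐ (Ideal.span {a}) i (algebraMap A _ x) = Ideal.Quotient.mk _ x :=
    fun i x => (AdicCompletion.evalₐ (Ideal.span {a}) i).commutes x
  have hmem : ∀ x ∈ I, algebraMap A (AdicCompletion (Ideal.span {a}) A) x ∈
      RingHom.ker (complProj a t ht) := by
    intro x hx
    rw [RingHom.mem_ker, complProj, RingHom.comp_apply]
    change Ideal.Quotient.factor ht (AdicCompletion.evalₐ _ t _) = 0
    rw [hev, Ideal.Quotient.factor_mk, Ideal.Quotient.eq_zero_iff_mem]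
    exact hx
  refine ⟨Ideal.map_le_iff_le_comap.mpr hmem, fun {n} x hx => ?_⟩
  refine AdicCompletion.ext_evalₐ fun j => ?_
  rw [hev]
  exact evalₐ_complDpow γ a t ht (hmem x hx) n hx (hev (j + t) x)

theorem exists_complDP :
    Function.Surjective (complProj a t ht) ∧
    ∃ δ : DividedPowers (RingHom.ker (complProj a t ht)),
      γ.IsDPMorphism δ (algebraMap A (AdicCompletion (Ideal.span {a}) A)) :=
  ⟨(Ideal.Quotient.factor_surjective ht).comp (AdicCompletion.surjective_evalₐ _ t),
    complDP γ a t ht, isDPMorphism_complDP γ a t ht⟩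

end Groth.Agent.H27DPow
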