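import Mathlib.RingTheory.DividedPowers.RatAlgebra
import Mathlib.RingTheory.MvPolynomial.Basic
import Mathlib.Data.Rat.Lemmas
import Mathlib.Tactic

/-! Divided powers from their values on generators. -/

universe u

open Finset

noncomputable section

namespace Groth.Agent.H27DPow

/-- The two-variable rational model. -/
abbrev Mdl : Type := MvPolynomial (Fin 2) ℚ

/-- The divided powers of the model. -/
def D : DividedPowers (⊤ : Ideal Mdl) :=
  haveI : DecidablePred (fun x => x ∈ (⊤ : Ideal Mdl)) := Classical.decPred _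
  DividedPowers.RatAlgebra.dividedPowers ⊤

lemma D_eq (i : ℕ) (P : Mdl) : D.dpow i P = ((i.factorial : ℚ)⁻¹) • P ^ i := by
  rw [DividedPowers.RatAlgebra.dpow_eq_inv_fact_smul ⊤ D Submodule.mem_top, Ring.inverse_eq_inv']

/-- The basis X^[i] Y^[j]. -/
def mon (q : ℕ × ℕ) : Mdl := D.dpow q.1 (MvPolynomial.X 0) * D.dpow q.2 (MvPolynomial.X 1)

lemma mon_eq (q : ℕ × ℕ) : mon q = MvPolynomial.monomial
    (Finsupp.single 0 q.1 + Finsupp.single 1 q.2) ((q.1.factorial : ℚ)⁻¹ * (q.2.factorial : ℚ)⁻¹) := by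
  rw [mon, D_eq, D_eq, MvPolynomial.X_pow_eq_monomial, MvPolynomial.X_pow_eq_monomial,
    MvPolynomial.smul_monomial, MvPolynomial.smul_monomial, MvPolynomial.monomial_mul]
  simp

/-- Integral combinations of the basis. -/
def toMdl : ((ℕ × ℕ) →₀ ℤ) →+ Mdl := Finsupp.liftAddHom fun q => zmultiplesHom Mdl (mon q)

lemma toMdl_single (q : ℕ × ℕ) (z : ℤ) : toMdl (Finsupp.single q z) = z • mon q := by
  simp [toMdl]

lemma toMdl_injective : Function.Injective toMdl := by
  refine (injective_iff_map_eq_zero _).2 fun f hf => Finsupp.ext fun q => ?_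
  classical
  have h := congrArg (MvPolynomial.coeff (Finsupp.single 0 q.1 + Finsupp.single 1 q.2)) hf
  rw [toMdl, Finsupp.liftAddHom_apply, Finsupp.sum, MvPolynomial.coeff_sum,
    MvPolynomial.coeff_zero] at h
  have hterm : ∀ r ∈ f.support, MvPolynomial.coeff (Finsupp.single 0 q.1 + Finsupp.single 1 q.2)
      ((zmultiplesHom Mdl (mon r)) (f r)) =
      if r = q then (f r : ℚ) * ((q.1.factorial : ℚ)⁻¹ * (q.2.factorial : ℚ)⁻¹) else 0 := by
    intro r _
    rw [zmultiplesHom_apply, mon_eq, zsmul_eq_mul, ← map_intCast (MvPolynomial.C : ℚ →+* Mdl),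
      MvPolynomial.coeff_C_mul, MvPolynomial.coeff_monomial]
    split_ifs with h1 h2 h2
    · rw [h2]
    · exact absurd (Prod.ext (by simpa using DFunLike.congr_fun h1 0)
        (by simpa using DFunLike.congr_fun h1 1)) h2
    · exact absurd (by rw [h2]) h1
    · rw [mul_zero]
  rw [sum_congr rfl hterm, sum_ite_eq'] at h
  split_ifs at h with hq
  · simpa [Nat.factorial_ne_zero] using h
  · exact Finsupp.notMem_support_iff.1 hq

section Rel

variable {A : Type u} [CommRing A] (d : ℕ → A → A) (x y : A)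

/-- The evaluation on integral combinations. -/
def evalInt : ((ℕ × ℕ) →₀ ℤ) →+ A :=
  Finsupp.liftAddHom fun q => zmultiplesHom A (d q.1 x * d q.2 y)

lemma evalInt_single (q : ℕ × ℕ) (z : ℤ) :
    evalInt d x y (Finsupp.single q z) = z • (d q.1 x * d q.2 y) := by simp [evalInt]

/-- P in the model corresponds to a in A. -/
def Rel (P : Mdl) (a : A) : Prop := ∃ f, toMdl f = P ∧ evalInt d x y f = a

variable {d x y}

lemma Rel.unique {P : Mdl} {a b : A} : Rel d x y P a → Rel d x y P b → a = b := by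
  rintro ⟨f, hf, rfl⟩ ⟨g, hg, rfl⟩
  rw [toMdl_injective (hf.trans hg.symm)]

lemma Rel.zero : Rel d x y 0 0 := ⟨0, map_zero _, map_zero _⟩

lemma Rel.mon (q : ℕ × ℕ) : Rel d x y (H27DPow.mon q) (d q.1 x * d q.2 y) :=
  ⟨Finsupp.single q 1, by simp [toMdl_single], by simp [evalInt_single]⟩

lemma Rel.add {P Q : Mdl} {a b : A} : Rel d x y P a → Rel d x y Q b → Rel d x y (P + Q) (a + b) := by
  rintro ⟨f, rfl, rfl⟩ ⟨g, rfl, rfl⟩
  exact ⟨f + g, map_add _ _ _, map_add _ _ _⟩

lemma Rel.sum {ι : Type*} (s : Finset ι) (P : ι → Mdl) (a : ι → A)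
    (h : ∀ i ∈ s, Rel d x y (P i) (a i)) : Rel d x y (∑ i ∈ s, P i) (∑ i ∈ s, a i) := by
  classical
  induction s using Finset.induction with
  | empty => simpa using Rel.zero
  | insert i s hi ih =>
    rw [sum_insert hi, sum_insert hi]
    exact (h i (mem_insert_self i s)).add (ih fun j hj => h j (mem_insert_of_mem hj))

lemma Rel.natMul (n : ℕ) {P : Mdl} {a : A} :
    Rel d x y P a → Rel d x y ((n : Mdl) * P) ((n : A) * a) := by
  rintro ⟨f, rfl, rfl⟩
  exact ⟨n • f, by rw [map_nsmul, nsmul_eq_mul], by rw [map_nsmul, nsmul_eq_mul]⟩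

variable (hx : ∀ i k, d i x * d k x = (Nat.choose (i + k) i : A) * d (i + k) x)
  (hy : ∀ i k, d i y * d k y = (Nat.choose (i + k) i : A) * d (i + k) y)

include hx hy in
lemma Rel.mul {P Q : Mdl} {a b : A} : Rel d x y P a → Rel d x y Q b → Rel d x y (P * Q) (a * b) := by
  rintro ⟨f, rfl, rfl⟩ ⟨g, rfl, rfl⟩
  induction f using Finsupp.induction_linear with
  | zero => simpa using Rel.zero
  | add f f' ih ih' => simpa [map_add, add_mul] using ih.add ih'
  | single q z =>
    induction g using Finsupp.induction_linear with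
    | zero => simpa using Rel.zero
    | add g g' ih ih' => simpa [map_add, mul_add] using ih.add ih'
    | single r w =>
      refine ⟨Finsupp.single (q.1 + r.1, q.2 + r.2)
        (z * w * ((q.1 + r.1).choose q.1 * (q.2 + r.2).choose q.2 : ℕ)), ?_, ?_⟩
      · rw [toMdl_single, toMdl_single, toMdl_single, smul_mul_smul_comm, mul_smul,
          H27DPow.mon, H27DPow.mon, H27DPow.mon, natCast_zsmul, nsmul_eq_mul,
          mul_mul_mul_comm (D.dpow q.1 _), D.mul_dpow Submodule.mem_top,
          D.mul_dpow Submodule.mem_top]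
        congr 1
        push_cast
        ring
      · rw [evalInt_single, evalInt_single, evalInt_single, smul_mul_smul_comm, mul_smul,
          natCast_zsmul, nsmul_eq_mul, mul_mul_mul_comm (d q.1 x), hx, hy]
        congr 1
        push_cast
        ring

include hx hy in
lemma Rel.pow {P : Mdl} {a : A} (h : Rel d x y P a) (h1 : Rel d x y 1 1) :
    ∀ k : ℕ, Rel d x y (P ^ k) (a ^ k)
  | 0 => by simpa using h1
  | k + 1 => by rw [pow_succ, pow_succ]; exact Rel.mul hx hy (Rel.pow h h1 k) h

end Rel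

variable {A : Type u} [CommRing A] {I : Ideal A} {d : ℕ → A → A}

section Core

variable (h_zero : ∀ x ∈ I, d 0 x = 1)
  (h_mem : ∀ (n : ℕ) (x : A), n ≠ 0 → x ∈ I → d n x ∈ I)
  (h_add : ∀ (n : ℕ) (x y : A), x ∈ I → y ∈ I →
    d n (x + y) = (Finset.HasAntidiagonal.antidiagonal n).sum fun k => d k.1 x * d k.2 y)
  (h_mul : ∀ (n : ℕ) (a x : A), x ∈ I → d n (a * x) = a ^ n * d n x)

include h_zero h_mul in
lemma d_zero_arg {n : ℕ} (hn : n ≠ 0) : d n 0 = 0 := by
  have := h_mul n 0 0 I.zero_mem
  rwa [mul_zero, zero_pow hn, zero_mul] at this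

/-- The pointwise axioms. -/
structure GoodAt (d : ℕ → A → A) (x : A) : Prop where
  mul : ∀ m n, d m x * d n x = (Nat.choose (m + n) m : A) * d (m + n) x
  comp : ∀ m n, n ≠ 0 → d m (d n x) = Nat.uniformBell m n * d (m * n) x

include h_zero h_mem h_add h_mul in
theorem GoodAt.add {x y : A} (hxI : x ∈ I) (hyI : y ∈ I) (hx : GoodAt d x) (hy : GoodAt d y) :
    GoodAt d (x + y) := by
  classical
  set X0 : Mdl := MvPolynomial.X 0
  set Y0 : Mdl := MvPolynomial.X 1
  have hone : Rel d x y 1 1 := by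
    have := Rel.mon (d := d) (x := x) (y := y) (0, 0)
    simpa [mon, D.dpow_zero, h_zero x hxI, h_zero y hyI] using this
  have hs : ∀ n, Rel d x y (D.dpow n (X0 + Y0)) (d n (x + y)) := by
    intro n
    rw [D.dpow_add Submodule.mem_top Submodule.mem_top, h_add n x y hxI hyI]
    exact Rel.sum _ _ _ fun q _ => Rel.mon q
  refine ⟨fun m n => ?_, fun m n hn => ?_⟩
  · have h1 := Rel.mul hx.mul hy.mul (hs m) (hs n)
    have h2 := (hs (m + n)).natMul (Nat.choose (m + n) m)
    rw [D.mul_dpow Submodule.mem_top] at h1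
    exact h1.unique h2
  have hY : ∀ j, Rel d x y (D.dpow j Y0) (d j y) := fun j => by
    simpa [mon, D.dpow_zero, h_zero x hxI, X0] using Rel.mon (d := d) (x := x) (y := y) (0, j)
  have hX : ∀ i, Rel d x y (D.dpow i X0) (d i x) := fun i => by
    simpa [mon, D.dpow_zero, h_zero y hyI, Y0] using Rel.mon (d := d) (x := x) (y := y) (i, 0)
  set P : ℕ × ℕ → Mdl := fun q => D.dpow q.1 X0 * D.dpow q.2 Y0
  set a : ℕ × ℕ → A := fun q => d q.1 x * d q.2 y
  have haI : ∀ q ∈ Finset.HasAntidiagonal.antidiagonal n, a q ∈ I := by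
    intro q hq
    rw [Finset.HasAntidiagonal.mem_antidiagonal] at hq
    by_cases h : q.1 = 0
    · exact I.mul_mem_left _ (h_mem _ _ (by omega) hyI)
    · exact I.mul_mem_right _ (h_mem _ _ h hxI)
  have hterm : ∀ q ∈ Finset.HasAntidiagonal.antidiagonal n, ∀ k,
      Rel d x y (D.dpow k (P q)) (d k (a q)) := by
    intro q hq k
    rw [Finset.HasAntidiagonal.mem_antidiagonal] at hq
    by_cases h : q.1 = 0
    · simp only [P, a, h, D.dpow_zero Submodule.mem_top, h_zero x hxI, one_mul]
      rw [D.dpow_comp (by omega) Submodule.mem_top, hy.comp _ _ (by omega)]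
      exact (hY _).natMul _
    · simp only [P, a]
      rw [mul_comm (D.dpow q.1 X0), mul_comm (d q.1 x), D.dpow_mul Submodule.mem_top,
        h_mul _ _ _ (h_mem _ _ h hxI), D.dpow_comp h Submodule.mem_top, hx.comp _ _ h]
      exact Rel.mul hx.mul hy.mul (Rel.pow hx.mul hy.mul (hY _) hone k) ((hX _).natMul _)
  have hL : Rel d x y (D.dpow m (D.dpow n (X0 + Y0))) (d m (d n (x + y))) := by
    rw [D.dpow_add Submodule.mem_top Submodule.mem_top, h_add n x y hxI hyI]
    rw [D.dpow_sum fun _ _ => Submodule.mem_top,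
      DividedPowers.dpow_sum' (I := I.toAddSubmonoid) d (fun hz => h_zero _ hz)
        (fun hz hw => h_add _ _ _ hz hw) (fun hn => d_zero_arg h_zero h_mul hn) haI]
    refine Rel.sum _ _ _ fun k _ => ?_
    have : ∀ s ⊆ Finset.HasAntidiagonal.antidiagonal n, Rel d x y
        (∏ i ∈ s, D.dpow (Multiset.count i k) (P i)) (∏ i ∈ s, d (Multiset.count i k) (a i)) := by
      intro s
      induction s using Finset.induction with
      | empty => intro _; simpa using hone
      | insert i s hi ih =>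
        intro hsub
        rw [prod_insert hi, prod_insert hi]
        exact Rel.mul hx.mul hy.mul (hterm i (hsub (mem_insert_self i s)) _)
          (ih fun j hj => hsub (mem_insert_of_mem hj))
    exact this _ subset_rfl
  rw [D.dpow_comp hn Submodule.mem_top] at hL
  exact hL.unique ((hs (m * n)).natMul _)

end Core

/-- Divided powers from additive and homogeneous maps which satisfy the axioms on generators. -/
def ofGenerators (S : Set A) (hS : Ideal.span S = I)
    (h_null : ∀ (n : ℕ) (x : A), x ∉ I → d n x = 0) (h_zero : ∀ x ∈ I, d 0 x = 1)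
    (h_one : ∀ x ∈ I, d 1 x = x) (h_mem : ∀ (n : ℕ) (x : A), n ≠ 0 → x ∈ I → d n x ∈ I)
    (h_add : ∀ (n : ℕ) (x y : A), x ∈ I → y ∈ I →
      d n (x + y) = (Finset.HasAntidiagonal.antidiagonal n).sum fun k => d k.1 x * d k.2 y)
    (h_mul : ∀ (n : ℕ) (a x : A), x ∈ I → d n (a * x) = a ^ n * d n x)
    (h_good : ∀ x ∈ S, GoodAt d x) : DividedPowers I :=
  have key : ∀ x, x ∈ I → GoodAt d x := fun x hx => by
    subst hS
    induction hx using Submodule.span_induction with
    | mem z hz => exact h_good z hz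
    | zero =>
      refine ⟨fun m n => ?_, fun m n hn => ?_⟩
      · by_cases hm : m = 0
        · subst hm; simp [h_zero 0 (zero_mem _)]
        · rw [d_zero_arg h_zero h_mul hm, d_zero_arg h_zero h_mul (show m + n ≠ 0 by omega)]; simp
      · by_cases hm : m = 0
        · subst hm
          rw [d_zero_arg h_zero h_mul hn, zero_mul, h_zero 0 (zero_mem _), Nat.uniformBell_zero_left]
          simp
        · rw [d_zero_arg h_zero h_mul hn, d_zero_arg h_zero h_mul hm,
            d_zero_arg h_zero h_mul (Nat.mul_ne_zero hm hn), mul_zero]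
    | add a b ha hb iha ihb => exact GoodAt.add h_zero h_mem h_add h_mul ha hb iha ihb
    | smul c z hz ih =>
      refine ⟨fun m n => ?_, fun m n hn => ?_⟩
      · rw [smul_eq_mul, h_mul _ _ _ hz, h_mul _ _ _ hz, h_mul _ _ _ hz, mul_mul_mul_comm, ih.mul,
          pow_add]
        ring
      · rw [smul_eq_mul, h_mul _ _ _ hz, h_mul _ _ _ (h_mem _ _ hn hz), h_mul _ _ _ hz,
          ih.comp _ _ hn, ← pow_mul, mul_comm n m]
        ring
  { dpow := d
    dpow_null := fun hx => h_null _ _ hx
    dpow_zero := fun hx => h_zero _ hx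
    dpow_one := fun hx => h_one _ hx
    dpow_mem := fun hn hx => h_mem _ _ hn hx
    dpow_add := fun hx hy => h_add _ _ _ hx hy
    dpow_mul := fun hx => h_mul _ _ _ hx
    mul_dpow := fun hx => (key _ hx).mul _ _
    dpow_comp := fun hn hx => (key _ hx).comp _ _ hn }

end Groth.Agent.H27DPow
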