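import Groth.Agent.H27DPow.Criterion
import Mathlib.RingTheory.DividedPowers.DPMorphism
import Mathlib.RingTheory.DividedPowers.SubDPIdeal
import Mathlib.RingTheory.Ideal.Quotient.Operations
import Mathlib.Algebra.MvPolynomial.Eval

/-! The divided power envelope, as a sub-object of a product of small targets. -/

universe u v w

open Finset

noncomputable section

namespace Groth.Agent.H27DPow

section Restrict

variable {S : Type u} {C : Type v} [CommRing S] [CommRing C] {K : Ideal C} (δ : DividedPowers K)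
  (f : S →+* C) {G : Set S}

/-- Restrict divided powers along an injective map to a stable ideal. -/
theorem exists_restrict (hf : Function.Injective f) (hG : ∀ g ∈ G, f g ∈ K)
    (hstab : ∀ g ∈ G, ∀ n ≠ 0, ∃ y ∈ Ideal.span G, f y = δ.dpow n (f g)) :
    ∃ δ' : DividedPowers (Ideal.span G), δ'.IsDPMorphism δ f := by
  classical
  set I := Ideal.span G with hI
  have hmap : I.map f ≤ K := by
    rw [hI, Ideal.map_span, Ideal.span_le]
    rintro _ ⟨g, hg, rfl⟩
    exact hG g hg
  have hall : ∀ x ∈ I, ∀ n, ∃ y, f y = δ.dpow n (f x) ∧ (n ≠ 0 → y ∈ I) := by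
    intro x hx
    induction hx using Submodule.span_induction with
    | mem g hg =>
      intro n
      by_cases hn : n = 0
      · subst hn; exact ⟨1, by rw [map_one, δ.dpow_zero (hG g hg)], fun h => absurd rfl h⟩
      · obtain ⟨y, hy, e⟩ := hstab g hg n hn
        exact ⟨y, e, fun _ => hy⟩
    | zero =>
      intro n
      by_cases hn : n = 0
      · subst hn; exact ⟨1, by rw [map_one, map_zero, δ.dpow_zero K.zero_mem], fun h => absurd rfl h⟩
      · exact ⟨0, by rw [map_zero, δ.dpow_eval_zero hn], fun _ => I.zero_mem⟩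
    | add a c ha hc iha ihc =>
      intro n
      choose u hu hu' using iha
      choose v hv hv' using ihc
      refine ⟨∑ k ∈ Finset.HasAntidiagonal.antidiagonal n, u k.1 * v k.2, ?_, fun hn => ?_⟩
      · rw [map_add, δ.dpow_add (hmap (Ideal.mem_map_of_mem f ha))
          (hmap (Ideal.mem_map_of_mem f hc)), map_sum]
        exact sum_congr rfl fun k _ => by rw [map_mul, hu, hv]
      · refine Submodule.sum_mem _ fun k hk => ?_
        rw [Finset.HasAntidiagonal.mem_antidiagonal] at hk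
        by_cases h1 : k.1 = 0
        · exact Ideal.mul_mem_left _ _ (hv' _ (by omega))
        · exact Ideal.mul_mem_right _ _ (hu' _ h1)
    | smul r z hz ih =>
      intro n
      obtain ⟨y, e, hy⟩ := ih n
      refine ⟨r ^ n * y, ?_, fun hn => Ideal.mul_mem_left _ _ (hy hn)⟩
      rw [smul_eq_mul, map_mul, map_pow, e, map_mul, δ.dpow_mul (hmap (Ideal.mem_map_of_mem f hz))]
  choose! g hg hgI using hall
  set d : ℕ → S → S := fun n x => if x ∈ I then g x n else 0 with hd
  have hdf : ∀ n, ∀ x ∈ I, f (d n x) = δ.dpow n (f x) := fun n x hx => by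
    simp only [hd, if_pos hx]; exact hg x hx n
  have hK : ∀ {x}, x ∈ I → f x ∈ K := fun hx => hmap (Ideal.mem_map_of_mem f hx)
  have hdI : ∀ n, ∀ x ∈ I, n ≠ 0 → d n x ∈ I := fun n x hx hn => by
    simp only [hd, if_pos hx]; exact hgI x hx n hn
  refine ⟨⟨d, fun hx => by simp only [hd, if_neg hx], fun {x} hx => hf ?_, fun {x} hx => hf ?_,
    fun hn hx => hdI _ _ hx hn, fun {n x y} hx hy => hf ?_, fun {n a x} hx => hf ?_,
    fun {m n x} hx => hf ?_, fun {m n x} hn hx => hf ?_⟩, hmap, fun {n} x hx => (hdf n x hx).symm⟩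
  · rw [hdf 0 x hx, δ.dpow_zero (hK hx), map_one]
  · rw [hdf 1 x hx, δ.dpow_one (hK hx)]
  · rw [hdf n _ (add_mem hx hy), map_add, δ.dpow_add (hK hx) (hK hy), map_sum]
    exact sum_congr rfl fun k _ => by rw [map_mul, hdf _ x hx, hdf _ y hy]
  · rw [hdf n _ (Ideal.mul_mem_left _ a hx), map_mul, δ.dpow_mul (hK hx), map_mul, map_pow,
      hdf n x hx]
  · rw [map_mul, hdf m x hx, hdf n x hx, δ.mul_dpow (hK hx), map_mul, map_natCast,
      hdf _ x hx]
  · rw [hdf m _ (hdI n x hx hn), hdf n x hx, δ.dpow_comp hn (hK hx), map_mul, map_natCast,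
      hdf _ x hx]

end Restrict

section Pi

variable {ι : Type u} {C : ι → Type v} [∀ i, CommRing (C i)] {K : ∀ i, Ideal (C i)}

/-- Componentwise divided powers on a product. -/
def piDP (δ : ∀ i, DividedPowers (K i)) : DividedPowers (Ideal.pi K) := by
  classical
  exact
  { dpow := fun n x => if x ∈ Ideal.pi K then fun i => (δ i).dpow n (x i) else 0
    dpow_null := fun hx => if_neg hx
    dpow_zero := fun {x} hx => by
      rw [if_pos hx]; exact funext fun i => (δ i).dpow_zero (hx i)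
    dpow_one := fun {x} hx => by
      rw [if_pos hx]; exact funext fun i => (δ i).dpow_one (hx i)
    dpow_mem := fun {n x} hn hx => by
      rw [if_pos hx]; exact fun i => (δ i).dpow_mem hn (hx i)
    dpow_add := fun {n x y} hx hy => by
      simp only [if_pos hx, if_pos hy, if_pos (add_mem hx hy)]
      funext i
      rw [Finset.sum_apply, Pi.add_apply, (δ i).dpow_add (hx i) (hy i)]
      exact sum_congr rfl fun k _ => rfl
    dpow_mul := fun {n a x} hx => by
      simp only [if_pos hx, if_pos (Ideal.mul_mem_left _ a hx)]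
      exact funext fun i => (δ i).dpow_mul (hx i)
    mul_dpow := fun {m n x} hx => by
      simp only [if_pos hx]
      funext i
      simpa using (δ i).mul_dpow (m := m) (n := n) (hx i)
    dpow_comp := fun {m n x} hn hx => by
      have h' : (fun i => (δ i).dpow n (x i)) ∈ Ideal.pi K := fun i => (δ i).dpow_mem hn (hx i)
      simp only [if_pos hx, if_pos h']
      funext i
      simpa using (δ i).dpow_comp (m := m) hn (hx i) }

lemma piDP_apply (δ : ∀ i, DividedPowers (K i)) {n : ℕ} {x : ∀ i, C i} (hx : x ∈ Ideal.pi K)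
    (i : ι) : (piDP δ).dpow n x i = (δ i).dpow n (x i) := by
  classical
  simp only [piDP, if_pos hx]

end Pi

section Envelope

variable {A B : Type u} [CommRing A] [CommRing B] [Algebra A B] {I : Ideal A} (γ : DividedPowers I)
  (J : Ideal B)

/-- A small target. -/
structure Target where
  q : Ideal (MvPolynomial (ℕ × J) B)
  K : Ideal (MvPolynomial (ℕ × J) B ⧸ q)
  δ : DividedPowers K
  map_J : J.map (algebraMap B (MvPolynomial (ℕ × J) B ⧸ q)) ≤ K
  mor : γ.IsDPMorphism δ ((algebraMap B (MvPolynomial (ℕ × J) B ⧸ q)).comp (algebraMap A B))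

/-- The product of all small targets. -/
abbrev Big : Type u := ∀ T : Target γ J, MvPolynomial (ℕ × J) B ⧸ T.q

/-- Its divided powers. -/
abbrev bigDP : DividedPowers (Ideal.pi fun T : Target γ J => T.K) := piDP fun T => T.δ

lemma J_mem_big {j : B} (hj : j ∈ J) :
    algebraMap B (Big γ J) j ∈ Ideal.pi fun T : Target γ J => T.K :=
  fun T => T.map_J (Ideal.mem_map_of_mem _ hj)

/-- The generators of the envelope. -/
def envGen : Set (Big γ J) := {y | ∃ j ∈ J, ∃ n ≠ 0, y = (bigDP γ J).dpow n (algebraMap B (Big γ J) j)}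

variable (hIJ : I.map (algebraMap A B) ≤ J)

include hIJ in
theorem exists_envelope :
    ∃ (D : Type u) (_ : CommRing D) (_ : Algebra B D) (JD : Ideal D) (γD : DividedPowers JD),
      J.map (algebraMap B D) ≤ JD ∧
      γ.IsDPMorphism γD ((algebraMap B D).comp (algebraMap A B)) ∧
      ∀ (C : Type u) [CommRing C] (K : Ideal C) (δ : DividedPowers K) (ψ : B →+* C),
        γ.IsDPMorphism δ (ψ.comp (algebraMap A B)) → J.map ψ ≤ K →
          ∃! χ : D →+* C, χ.comp (algebraMap B D) = ψ ∧ γD.IsDPMorphism δ χ := by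
  classical
  set E : Subalgebra B (Big γ J) := Algebra.adjoin B (envGen γ J) with hE
  set G : Set E := {g | (g : Big γ J) ∈ envGen γ J} with hG
  have hmemK : ∀ y ∈ envGen γ J, y ∈ Ideal.pi fun T : Target γ J => T.K := by
    rintro _ ⟨j, hj, n, hn, rfl⟩
    exact (bigDP γ J).dpow_mem hn (J_mem_big γ J hj)
  obtain ⟨γD, hγD⟩ := exists_restrict (bigDP γ J) E.val.toRingHom (G := G) Subtype.val_injective
    (fun g hg => hmemK _ hg) (fun g hg n hn => by
      obtain ⟨j, hj, k, hk, e⟩ := hg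
      refine ⟨(Nat.uniformBell n k : E) * (⟨(bigDP γ J).dpow (n * k) (algebraMap B (Big γ J) j),
        Algebra.subset_adjoin ⟨j, hj, n * k, Nat.mul_ne_zero hn hk, rfl⟩⟩ : E),
        Ideal.mul_mem_left _ _ (Ideal.subset_span ⟨j, hj, n * k, Nat.mul_ne_zero hn hk, rfl⟩), ?_⟩
      change E.val ((Nat.uniformBell n k : E) * _) = (bigDP γ J).dpow n (g : Big γ J)
      rw [map_mul, map_natCast, e, (bigDP γ J).dpow_comp hk (J_mem_big γ J hj)]
      rfl)
  have hjD : ∀ j ∈ J, algebraMap B E j ∈ Ideal.span G := fun j hj => Ideal.subset_span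
    ⟨j, hj, 1, one_ne_zero, by
      change algebraMap B (Big γ J) j = _
      rw [(bigDP γ J).dpow_one (J_mem_big γ J hj)]⟩
  have hgen : ∀ (n : ℕ), ∀ j ∈ J, ((γD.dpow n (algebraMap B E j) : E) : Big γ J) =
      (bigDP γ J).dpow n (algebraMap B (Big γ J) j) := fun n j hj =>
    (hγD.2 _ (hjD j hj)).symm
  refine ⟨E, inferInstance, inferInstance, Ideal.span G, γD, ?_, ⟨?_, fun {n} a ha => ?_⟩, ?_⟩
  · exact Ideal.map_le_iff_le_comap.2 hjD
  · rw [← Ideal.map_map]
    exact (Ideal.map_mono hIJ).trans (Ideal.map_le_iff_le_comap.2 hjD)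
  · have haJ : algebraMap A B a ∈ J := hIJ (Ideal.mem_map_of_mem _ ha)
    apply Subtype.val_injective
    rw [RingHom.comp_apply, hgen n _ haJ, RingHom.comp_apply]
    funext T
    rw [piDP_apply _ (J_mem_big γ J haJ)]
    exact T.mor.2 a ha
  intro C _ K δ ψ hψ hψJ
  letI : Algebra B C := ψ.toAlgebra
  set ev : MvPolynomial (ℕ × J) B →ₐ[B] C :=
    MvPolynomial.aeval fun p : ℕ × J => δ.dpow p.1 (ψ p.2) with hev
  set q := RingHom.ker ev with hq
  set f : MvPolynomial (ℕ × J) B ⧸ q →ₐ[B] C := Ideal.kerLiftAlg ev with hf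
  have hfi : Function.Injective f := Ideal.kerLiftAlg_injective ev
  have hjK : ∀ j ∈ J, ψ j ∈ K := fun j hj => hψJ (Ideal.mem_map_of_mem _ hj)
  have hfX : ∀ p : ℕ × J, f (Ideal.Quotient.mk q (MvPolynomial.X p)) = δ.dpow p.1 (ψ p.2) :=
    fun p => by rw [hf, Ideal.kerLiftAlg_mk, hev, MvPolynomial.aeval_X]
  have hfB : ∀ c : B, f (algebraMap B _ c) = ψ c := fun c => f.commutes c
  set Gq : Set (MvPolynomial (ℕ × J) B ⧸ q) :=
    {y | ∃ (j : J) (n : ℕ), n ≠ 0 ∧ y = Ideal.Quotient.mk q (MvPolynomial.X (n, j))}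
  obtain ⟨δq, hδq⟩ := exists_restrict δ f.toRingHom (G := Gq) hfi
    (fun g hg => by
      obtain ⟨j, n, hn, rfl⟩ := hg
      change f _ ∈ K
      rw [hfX]
      exact δ.dpow_mem hn (hjK _ j.2))
    (fun g hg m hm => by
      obtain ⟨j, n, hn, rfl⟩ := hg
      refine ⟨(Nat.uniformBell m n : MvPolynomial (ℕ × J) B ⧸ q) *
        Ideal.Quotient.mk q (MvPolynomial.X (m * n, j)),
        Ideal.mul_mem_left _ _ (Ideal.subset_span ⟨j, m * n, Nat.mul_ne_zero hm hn, rfl⟩), ?_⟩
      change f (_ * _) = δ.dpow m (f _)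
      rw [map_mul, map_natCast, hfX, hfX, δ.dpow_comp hn (hjK _ j.2)])
  have hjq : ∀ j ∈ J, algebraMap B _ j ∈ Ideal.span Gq := by
    intro j hj
    have : algebraMap B (MvPolynomial (ℕ × J) B ⧸ q) j =
        Ideal.Quotient.mk q (MvPolynomial.X (1, ⟨j, hj⟩)) := by
      apply hfi
      rw [hfB, hfX, δ.dpow_one (hjK j hj)]
    rw [this]
    exact Ideal.subset_span ⟨⟨j, hj⟩, 1, one_ne_zero, rfl⟩
  let T : Target γ J :=
    { q := q
      K := Ideal.span Gq
      δ := δq
      map_J := Ideal.map_le_iff_le_comap.2 hjq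
      mor := ⟨by
        rw [← Ideal.map_map]
        exact (Ideal.map_mono hIJ).trans (Ideal.map_le_iff_le_comap.2 hjq), fun {n} a ha => by
        apply hfi
        have haJ : algebraMap A B a ∈ J := hIJ (Ideal.mem_map_of_mem _ ha)
        rw [RingHom.comp_apply, RingHom.comp_apply, hfB]
        have h1 : f (δq.dpow n (algebraMap B _ (algebraMap A B a))) =
            δ.dpow n (f (algebraMap B _ (algebraMap A B a))) := (hδq.2 _ (hjq _ haJ)).symm
        rw [h1, hfB]
        exact hψ.2 a ha⟩ }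
  set χ : E →+* C :=
    (f.toRingHom.comp (Pi.evalRingHom (fun T : Target γ J => MvPolynomial (ℕ × J) B ⧸ T.q) T)).comp
      E.val.toRingHom with hχ
  have hχB : ∀ c, χ (algebraMap B E c) = ψ c := fun c => hfB c
  have hχgen : ∀ n, ∀ j ∈ J, χ (γD.dpow n (algebraMap B E j)) = δ.dpow n (ψ j) := by
    intro n j hj
    change f ((γD.dpow n (algebraMap B E j) : Big γ J) T) = _
    rw [hgen n j hj, piDP_apply _ (J_mem_big γ J hj)]
    change f (δq.dpow n (algebraMap B _ j)) = _
    rw [show f (δq.dpow n (algebraMap B _ j)) = δ.dpow n (f (algebraMap B _ j)) from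
      (hδq.2 _ (hjq j hj)).symm, hfB]
  have hGval : ∀ g ∈ G, ∃ j ∈ J, ∃ n ≠ 0, g = γD.dpow n (algebraMap B E j) := by
    rintro g ⟨j, hj, n, hn, e⟩
    exact ⟨j, hj, n, hn, Subtype.val_injective (e.trans (hgen n j hj).symm)⟩
  refine ⟨χ, ⟨RingHom.ext hχB, ?_⟩, ?_⟩
  · refine DividedPowers.IsDPMorphism.on_span γD δ rfl ?_ ?_
    · intro g hg
      obtain ⟨j, hj, n, hn, rfl⟩ := hGval g hg
      rw [hχgen n j hj]
      exact δ.dpow_mem hn (hjK j hj)
    · intro m g hg
      obtain ⟨j, hj, n, hn, rfl⟩ := hGval g hg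
      rw [hχgen n j hj, δ.dpow_comp hn (hjK j hj), γD.dpow_comp hn (hjD j hj), map_mul, map_natCast,
        hχgen _ j hj]
  · rintro χ' ⟨hχ'B, hχ'⟩
    refine RingHom.ext fun e => ?_
    obtain ⟨e, he⟩ := e
    induction he using Algebra.adjoin_induction with
    | mem y hy =>
      obtain ⟨j, hj, n, hn, e'⟩ := hGval ⟨y, Algebra.subset_adjoin hy⟩ hy
      rw [e', hχgen n j hj, hχ'.map_dpow (hjD j hj)]
      exact congrArg _ (RingHom.congr_fun hχ'B j)
    | algebraMap c => exact (RingHom.congr_fun hχ'B c).trans (hχB c).symm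
    | add y z hy hz iy iz =>
      change χ' (⟨y, hy⟩ + ⟨z, hz⟩) = χ (⟨y, hy⟩ + ⟨z, hz⟩)
      rw [map_add, map_add, iy, iz]
    | mul y z hy hz iy iz =>
      change χ' (⟨y, hy⟩ * ⟨z, hz⟩) = χ (⟨y, hy⟩ * ⟨z, hz⟩)
      rw [map_mul, map_mul, iy, iz]

end Envelope

end Groth.Agent.H27DPow
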