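import Groth.Agent.H27DPow.Criterion
import Mathlib.RingTheory.Flat.Basic
import Mathlib.RingTheory.PowerSeries.Basic
import Mathlib.RingTheory.DividedPowers.SubDPIdeal
import Mathlib.LinearAlgebra.TensorProduct.Basic

/-! Extensions and sums of divided power ideals. -/

universe u v

open Finset PowerSeries TensorProduct

noncomputable section

namespace Groth.Agent.H27DPow

section Gen

variable {A : Type u} [CommRing A]

lemma exp_zero' {I : Ideal A} (γ : DividedPowers I) : γ.exp 0 = 1 := by
  ext n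
  rcases Nat.eq_zero_or_pos n with rfl | hn
  · simp [DividedPowers.exp, γ.dpow_zero I.zero_mem]
  · simp [DividedPowers.exp, γ.dpow_eval_zero (by omega : n ≠ 0), coeff_one, show n ≠ 0 by omega]

lemma exp_mul' {I : Ideal A} (γ : DividedPowers I) (a : A) {x : A} (hx : x ∈ I) :
    γ.exp (a * x) = rescale a (γ.exp x) := by
  ext n; simp [DividedPowers.exp, γ.dpow_mul hx]

lemma exp_add_rescale {I : Ideal A} (γ : DividedPowers I) (a b : A) {x : A} (hx : x ∈ I) :
    rescale (a + b) (γ.exp x) = rescale a (γ.exp x) * rescale b (γ.exp x) := by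
  rw [← exp_mul' γ _ hx, ← exp_mul' γ _ hx, ← exp_mul' γ _ hx, add_mul]
  exact γ.exp_add (I.mul_mem_left _ hx) (I.mul_mem_left _ hx)

lemma goodAt_of_dpow {I : Ideal A} (γ : DividedPowers I) {x : A} (hx : x ∈ I) :
    GoodAt γ.dpow x :=
  ⟨fun _ _ => γ.mul_dpow hx, fun _ _ hn => γ.dpow_comp hn hx⟩

/-- The sum of two compatible structures. -/
theorem exists_sup {I J : Ideal A} (γ : DividedPowers I) (δ : DividedPowers J)
    (h : ∀ (n : ℕ) (x : A), x ∈ I ⊓ J → γ.dpow n x = δ.dpow n x) :
    ∃ ε : DividedPowers (I ⊔ J), (∀ (n : ℕ) (x : A), x ∈ I → ε.dpow n x = γ.dpow n x) ∧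
      (∀ (n : ℕ) (x : A), x ∈ J → ε.dpow n x = δ.dpow n x) := by
  classical
  have hE : ∀ z, z ∈ I ⊔ J → ∃ f : PowerSeries A,
      ∀ x ∈ I, ∀ y ∈ J, x + y = z → f = γ.exp x * δ.exp y := by
    intro z hz
    obtain ⟨x, hx, y, hy, rfl⟩ := Submodule.mem_sup.1 hz
    refine ⟨γ.exp x * δ.exp y, fun x' hx' y' hy' he => ?_⟩
    have hw : x - x' = y' - y := by linear_combination -he
    have hwI : x - x' ∈ I := sub_mem hx hx'
    have hwJ : x - x' ∈ J := by rw [hw]; exact sub_mem hy' hy
    have e : γ.exp (x - x') = δ.exp (x - x') := by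
      ext n; simp [DividedPowers.exp, h n _ ⟨hwI, hwJ⟩]
    calc γ.exp x * δ.exp y = γ.exp x' * γ.exp (x - x') * δ.exp y := by
          rw [← γ.exp_add hx' hwI, add_sub_cancel]
      _ = γ.exp x' * δ.exp y' := by
          rw [e, mul_assoc, ← δ.exp_add hwJ hy, hw, sub_add_cancel]
  choose! E hE using hE
  set d : ℕ → A → A := fun n z => if z ∈ I ⊔ J then coeff n (E z) else 0 with hd
  have hdI : ∀ n, ∀ x ∈ I, d n x = γ.dpow n x := by
    intro n x hx
    simp only [hd, if_pos (Submodule.mem_sup_left hx)]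
    rw [hE x (Submodule.mem_sup_left hx) x hx 0 J.zero_mem (add_zero x), exp_zero', mul_one]
    simp [DividedPowers.exp]
  have hdJ : ∀ n, ∀ x ∈ J, d n x = δ.dpow n x := by
    intro n x hx
    simp only [hd, if_pos (Submodule.mem_sup_right hx)]
    rw [hE x (Submodule.mem_sup_right hx) 0 I.zero_mem x hx (zero_add x), exp_zero', one_mul]
    simp [DividedPowers.exp]
  have hadd : ∀ n, ∀ x y : A, x ∈ I ⊔ J → y ∈ I ⊔ J →
      d n (x + y) = (Finset.HasAntidiagonal.antidiagonal n).sum fun k => d k.1 x * d k.2 y := by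
    intro n x y hx hy
    obtain ⟨a, ha, b, hb, rfl⟩ := Submodule.mem_sup.1 hx
    obtain ⟨a', ha', b', hb', rfl⟩ := Submodule.mem_sup.1 hy
    simp only [hd, if_pos hx, if_pos hy, if_pos (add_mem hx hy)]
    rw [← coeff_mul, hE _ hx a ha b hb rfl, hE _ hy a' ha' b' hb' rfl,
      hE _ (add_mem hx hy) (a + a') (add_mem ha ha') (b + b') (add_mem hb hb') (by ring),
      γ.exp_add ha ha', δ.exp_add hb hb']
    congr 1
    ring
  let ε : DividedPowers (I ⊔ J) := ofGenerators (d := d) ((I : Set A) ∪ J)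
    (by rw [Ideal.span_union, Ideal.span_eq, Ideal.span_eq])
    (fun n x hx => by simp only [hd, if_neg hx])
    (fun z hz => by
      obtain ⟨x, hx, y, hy, rfl⟩ := Submodule.mem_sup.1 hz
      simp only [hd, if_pos hz]
      rw [hE _ hz x hx y hy rfl, coeff_zero_eq_constantCoeff_apply, map_mul]
      simp [DividedPowers.exp, γ.dpow_zero hx, δ.dpow_zero hy])
    (fun z hz => by
      obtain ⟨x, hx, y, hy, rfl⟩ := Submodule.mem_sup.1 hz
      rw [hadd 1 x y (Submodule.mem_sup_left hx) (Submodule.mem_sup_right hy)]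
      rw [show (Finset.HasAntidiagonal.antidiagonal 1 : Finset (ℕ × ℕ)) = {(0, 1), (1, 0)} by rfl,
        sum_pair (by simp)]
      simp [hdI _ x hx, hdJ _ y hy, γ.dpow_zero hx, δ.dpow_zero hy, γ.dpow_one hx, δ.dpow_one hy,
        add_comm])
    (fun n z hn hz => by
      obtain ⟨x, hx, y, hy, rfl⟩ := Submodule.mem_sup.1 hz
      rw [hadd n x y (Submodule.mem_sup_left hx) (Submodule.mem_sup_right hy)]
      refine Submodule.sum_mem _ fun k hk => ?_
      rw [Finset.HasAntidiagonal.mem_antidiagonal] at hk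
      rw [hdI _ x hx, hdJ _ y hy]
      by_cases h1 : k.1 = 0
      · exact Ideal.mul_mem_left _ _ (Submodule.mem_sup_right (δ.dpow_mem (by omega) hy))
      · exact Ideal.mul_mem_right _ _ (Submodule.mem_sup_left (γ.dpow_mem h1 hx)))
    hadd
    (fun n a z hz => by
      obtain ⟨x, hx, y, hy, rfl⟩ := Submodule.mem_sup.1 hz
      have hax : a * x ∈ I := I.mul_mem_left _ hx
      have hay : a * y ∈ J := J.mul_mem_left _ hy
      simp only [hd, if_pos hz, if_pos (Ideal.mul_mem_left _ a hz)]
      rw [hE _ hz x hx y hy rfl, hE _ (Ideal.mul_mem_left _ a hz) _ hax _ hay (by ring),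
        exp_mul' γ a hx, exp_mul' δ a hy, ← map_mul, coeff_rescale])
    (by
      rintro x (hx | hx)
      · have hx' : x ∈ I := hx
        refine ⟨fun m n => ?_, fun m n hn => ?_⟩
        · rw [hdI m x hx', hdI n x hx', hdI _ x hx', γ.mul_dpow hx']
        · rw [hdI n x hx', hdI m _ (γ.dpow_mem hn hx'), hdI _ x hx', γ.dpow_comp hn hx']
      · have hx' : x ∈ J := hx
        refine ⟨fun m n => ?_, fun m n hn => ?_⟩
        · rw [hdJ m x hx', hdJ n x hx', hdJ _ x hx', δ.mul_dpow hx']
        · rw [hdJ n x hx', hdJ m _ (δ.dpow_mem hn hx'), hdJ _ x hx', δ.dpow_comp hn hx'])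
  exact ⟨ε, hdI, hdJ⟩

end Gen

section Ext

variable {A : Type u} {B : Type v} [CommRing A] [CommRing B] [Algebra A B] {I : Ideal A}
  (γ : DividedPowers I)

/-- The series of images. -/
def expB (x : A) : PowerSeries B := PowerSeries.map (algebraMap A B) (γ.exp x)

lemma coeff_expB (n : ℕ) (x : A) : coeff n (expB (B := B) γ x) = algebraMap A B (γ.dpow n x) := by
  simp [expB, DividedPowers.exp]

lemma constantCoeff_expB {x : A} (hx : x ∈ I) : constantCoeff (expB (B := B) γ x) = 1 := by
  rw [← coeff_zero_eq_constantCoeff_apply, coeff_expB, γ.dpow_zero hx, map_one]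

lemma expB_add {x y : A} (hx : x ∈ I) (hy : y ∈ I) :
    expB (B := B) γ (x + y) = expB γ x * expB γ y := by
  rw [expB, γ.exp_add hx hy, map_mul]; rfl

lemma rescale_expB_add (b c : B) {x : A} (hx : x ∈ I) :
    rescale (b + c) (expB γ x) = rescale b (expB γ x) * rescale c (expB γ x) := by
  ext n
  simp only [coeff_rescale, coeff_expB, coeff_mul]
  rw [Commute.add_pow' (Commute.all b c), sum_mul]
  refine sum_congr rfl fun k hk => ?_
  rw [Finset.HasAntidiagonal.mem_antidiagonal] at hk
  have := congrArg (algebraMap A B) (γ.mul_dpow (m := k.1) (n := k.2) hx)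
  rw [hk, map_mul, map_mul, map_natCast] at this
  rw [nsmul_eq_mul]
  linear_combination -(b ^ k.1 * c ^ k.2) * this

lemma rescale_zero_expB {x : A} (hx : x ∈ I) : rescale (0 : B) (expB γ x) = 1 := by
  rw [rescale_zero, RingHom.comp_apply, constantCoeff_expB γ hx, map_one]

/-- b ↦ E(x ⊗ b). -/
def tExpAux (x : I) : B →+ Additive (PowerSeries B) where
  toFun b := Additive.ofMul (rescale b (expB γ (x : A)))
  map_zero' := by rw [rescale_zero_expB γ x.2]; rfl
  map_add' b c := by rw [← ofMul_mul, rescale_expB_add γ b c x.2]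

/-- The series E attached to an element of I ⊗ B. -/
def tExp : (I ⊗[A] B) →+ Additive (PowerSeries B) :=
  TensorProduct.liftAddHom
    { toFun := tExpAux γ
      map_zero' := AddMonoidHom.ext fun b => by
        have : expB (B := B) γ (0 : A) = 1 := by
          rw [expB, exp_zero', map_one]
        simp [tExpAux, this]
      map_add' := fun x y => AddMonoidHom.ext fun b => by
        simp only [tExpAux, AddMonoidHom.coe_mk, ZeroHom.coe_mk, AddMonoidHom.add_apply,
          ← ofMul_mul, ← map_mul, Submodule.coe_add, expB_add γ x.2 y.2] }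
    (fun a x b => by
      simp only [tExpAux, AddMonoidHom.coe_mk, ZeroHom.coe_mk, SetLike.val_smul, smul_eq_mul]
      congr 1
      ext n
      simp only [coeff_rescale, coeff_expB, γ.dpow_mul x.2, map_mul, map_pow, Algebra.smul_def,
        mul_pow]
      ring)

lemma tExp_tmul (x : I) (b : B) :
    Additive.toMul (tExp γ (x ⊗ₜ b)) = rescale b (expB γ (x : A)) := rfl

lemma tExp_add (s t : I ⊗[A] B) :
    Additive.toMul (tExp γ (s + t)) = Additive.toMul (tExp γ s) * Additive.toMul (tExp γ t) := by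
  rw [map_add]; rfl

/-- The map I ⊗ B → B. -/
def tMul : (I ⊗[A] B) →ₗ[A] B :=
  (TensorProduct.lid A B).toLinearMap ∘ₗ (I.subtype).rTensor B

lemma tMul_tmul (x : I) (b : B) : tMul (x ⊗ₜ b) = algebraMap A B x * b := by
  simp [tMul, Algebra.smul_def]

lemma mem_map_iff_exists (z : B) :
    z ∈ I.map (algebraMap A B) ↔ ∃ t : I ⊗[A] B, tMul t = z := by
  constructor
  · intro hz
    suffices ∀ b : B, ∃ t : I ⊗[A] B, tMul t = b * z by simpa using this 1
    induction hz using Submodule.span_induction with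
    | mem w hw =>
      obtain ⟨a, ha, rfl⟩ := hw
      intro b
      exact ⟨(⟨a, ha⟩ : I) ⊗ₜ b, by rw [tMul_tmul]; ring⟩
    | zero => exact fun b => ⟨0, by simp⟩
    | add u w _ _ hu hw =>
      intro b
      obtain ⟨s, hs⟩ := hu b
      obtain ⟨t, ht⟩ := hw b
      exact ⟨s + t, by rw [map_add, hs, ht, mul_add]⟩
    | smul c u _ hu =>
      intro b
      obtain ⟨t, ht⟩ := hu (b * c)
      exact ⟨t, by rw [ht, smul_eq_mul]; ring⟩
  · rintro ⟨t, rfl⟩
    induction t using TensorProduct.induction_on with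
    | zero => simp
    | tmul x b => rw [tMul_tmul]; exact Ideal.mul_mem_right _ _ (Ideal.mem_map_of_mem _ x.2)
    | add s t hs ht => rw [map_add]; exact add_mem hs ht

lemma tExp_mem (t : I ⊗[A] B) {n : ℕ} (hn : n ≠ 0) :
    coeff n (Additive.toMul (tExp γ t)) ∈ I.map (algebraMap A B) := by
  induction t using TensorProduct.induction_on generalizing n with
  | zero => rw [map_zero]; simp [hn, coeff_one]
  | tmul x b =>
    rw [tExp_tmul, coeff_rescale, coeff_expB]
    exact Ideal.mul_mem_left _ _ (Ideal.mem_map_of_mem _ (γ.dpow_mem hn x.2))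
  | add s t hs ht =>
    rw [tExp_add, coeff_mul]
    refine Submodule.sum_mem _ fun k hk => ?_
    rw [Finset.HasAntidiagonal.mem_antidiagonal] at hk
    by_cases h1 : k.1 = 0
    · exact Ideal.mul_mem_left _ _ (ht (by omega))
    · exact Ideal.mul_mem_right _ _ (hs h1)

lemma tExp_constantCoeff (t : I ⊗[A] B) : constantCoeff (Additive.toMul (tExp γ t)) = 1 := by
  induction t using TensorProduct.induction_on with
  | zero => rw [map_zero]; simp
  | tmul x b =>
    rw [tExp_tmul, ← coeff_zero_eq_constantCoeff_apply, coeff_rescale, coeff_expB,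
      γ.dpow_zero x.2]
    simp
  | add s t hs ht => rw [tExp_add, map_mul, hs, ht, mul_one]

lemma tExp_one (t : I ⊗[A] B) : coeff 1 (Additive.toMul (tExp γ t)) = tMul t := by
  induction t using TensorProduct.induction_on with
  | zero => rw [map_zero]; simp
  | tmul x b =>
    rw [tExp_tmul, coeff_rescale, coeff_expB, γ.dpow_one x.2, tMul_tmul, pow_one, mul_comm]
  | add s t hs ht =>
    rw [tExp_add, coeff_one_mul, tExp_constantCoeff, tExp_constantCoeff, mul_one, mul_one, hs, ht,
      map_add]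

lemma tExp_smul (t : I ⊗[A] B) (b : B) :
    ∃ t', tMul t' = b * tMul t ∧
      Additive.toMul (tExp γ t') = rescale b (Additive.toMul (tExp γ t)) := by
  induction t using TensorProduct.induction_on with
  | zero => exact ⟨0, by simp, by rw [map_zero]; simp⟩
  | tmul x c =>
    refine ⟨x ⊗ₜ (b * c), by rw [tMul_tmul, tMul_tmul]; ring, ?_⟩
    rw [tExp_tmul, tExp_tmul, rescale_rescale, mul_comm b c]
  | add s t hs ht =>
    obtain ⟨s', hs1, hs2⟩ := hs
    obtain ⟨t', ht1, ht2⟩ := ht
    exact ⟨s' + t', by rw [map_add, map_add, hs1, ht1, mul_add],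
      by rw [tExp_add, tExp_add, map_mul, hs2, ht2]⟩

/-- Extension when E factors through the image. -/
theorem exists_extension (hwd : ∀ t t' : I ⊗[A] B, tMul t = tMul t' → tExp γ t = tExp γ t') :
    ∃ δ : DividedPowers (I.map (algebraMap A B)), γ.IsDPMorphism δ (algebraMap A B) := by
  classical
  have hch : ∀ z, z ∈ I.map (algebraMap A B) → ∃ t : I ⊗[A] B, tMul t = z :=
    fun z hz => (mem_map_iff_exists z).1 hz
  choose! T hT using hch
  set d : ℕ → B → B := fun n z =>
    if z ∈ I.map (algebraMap A B) then coeff n (Additive.toMul (tExp γ (T z))) else 0 with hd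
  have hd' : ∀ n (t : I ⊗[A] B), d n (tMul t) = coeff n (Additive.toMul (tExp γ t)) := by
    intro n t
    have hm : tMul t ∈ I.map (algebraMap A B) := (mem_map_iff_exists _).2 ⟨t, rfl⟩
    simp only [hd, if_pos hm]
    rw [hwd (T (tMul t)) t (hT _ hm)]
  have hdA : ∀ n, ∀ x ∈ I, d n (algebraMap A B x) = algebraMap A B (γ.dpow n x) := by
    intro n x hx
    have := hd' n ((⟨x, hx⟩ : I) ⊗ₜ (1 : B))
    rw [tMul_tmul, mul_one, tExp_tmul, coeff_rescale, one_pow, one_mul, coeff_expB] at this
    exact this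
  let δ : DividedPowers (I.map (algebraMap A B)) := ofGenerators (d := d)
    (algebraMap A B '' (I : Set A)) rfl
    (fun n x hx => by simp only [hd, if_neg hx])
    (fun z hz => by
      obtain ⟨t, rfl⟩ := (mem_map_iff_exists z).1 hz
      rw [hd', coeff_zero_eq_constantCoeff_apply, tExp_constantCoeff])
    (fun z hz => by
      obtain ⟨t, rfl⟩ := (mem_map_iff_exists z).1 hz
      rw [hd', tExp_one])
    (fun n z hn hz => by
      obtain ⟨t, rfl⟩ := (mem_map_iff_exists z).1 hz
      rw [hd']
      exact tExp_mem γ t hn)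
    (fun n x y hx hy => by
      obtain ⟨s, rfl⟩ := (mem_map_iff_exists x).1 hx
      obtain ⟨t, rfl⟩ := (mem_map_iff_exists y).1 hy
      rw [← map_add, hd', tExp_add, coeff_mul]
      exact sum_congr rfl fun k _ => by rw [hd', hd'])
    (fun n a z hz => by
      obtain ⟨t, rfl⟩ := (mem_map_iff_exists z).1 hz
      obtain ⟨t', h1, h2⟩ := tExp_smul γ t a
      rw [← h1, hd', h2, coeff_rescale, hd'])
    (by
      rintro _ ⟨x, hx, rfl⟩
      have hx' : x ∈ I := hx
      refine ⟨fun m n => ?_, fun m n hn => ?_⟩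
      · rw [hdA m x hx', hdA n x hx', hdA _ x hx', ← map_mul, γ.mul_dpow hx', map_mul, map_natCast]
      · rw [hdA n x hx', hdA m _ (γ.dpow_mem hn hx'), hdA _ x hx', γ.dpow_comp hn hx', map_mul,
          map_natCast])
  exact ⟨δ, le_rfl, fun {n} x hx => hdA n x hx⟩

theorem extension_unique (δ δ' : DividedPowers (I.map (algebraMap A B)))
    (h : γ.IsDPMorphism δ (algebraMap A B)) (h' : γ.IsDPMorphism δ' (algebraMap A B)) : δ = δ' := by
  refine DividedPowers.ext _ _ fun n z hz => ?_
  have := DividedPowers.le_equalizer_of_isDPMorphism γ (algebraMap A B) le_rfl δ δ' h h' hz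
  exact ((DividedPowers.mem_dpEqualizer_iff δ δ').1 this).2 n

theorem exists_extension_of_flat [Module.Flat A B] :
    ∃ δ : DividedPowers (I.map (algebraMap A B)), γ.IsDPMorphism δ (algebraMap A B) := by
  refine exists_extension γ fun t t' h => ?_
  have hinj : Function.Injective (tMul : (I ⊗[A] B) → B) := by
    rw [tMul]
    exact (TensorProduct.lid A B).injective.comp
      (Module.Flat.rTensor_preserves_injective_linearMap _ Subtype.val_injective)
  rw [hinj h]

theorem exists_extension_of_principal {x : A} (γ : DividedPowers (Ideal.span {x})) :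
    ∃ δ : DividedPowers ((Ideal.span {x}).map (algebraMap A B)),
      γ.IsDPMorphism δ (algebraMap A B) := by
  refine exists_extension γ fun t t' h => ?_
  have hx : x ∈ Ideal.span {x} := Ideal.mem_span_singleton_self x
  have key : ∀ t : Ideal.span {x} ⊗[A] B, ∃ b, tMul t = b * algebraMap A B x ∧
      Additive.toMul (tExp γ t) = rescale b (expB γ x) := by
    intro t
    induction t using TensorProduct.induction_on with
    | zero =>
      refine ⟨0, by simp, ?_⟩
      rw [map_zero, rescale_zero, RingHom.comp_apply, constantCoeff_expB γ hx, map_one]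
      rfl
    | tmul y b =>
      obtain ⟨a, ha⟩ := Ideal.mem_span_singleton'.1 y.2
      refine ⟨algebraMap A B a * b, by rw [tMul_tmul, ← ha, map_mul]; ring, ?_⟩
      rw [tExp_tmul, ← ha]
      ext n
      rw [coeff_rescale, coeff_rescale, coeff_expB, coeff_expB, γ.dpow_mul hx, map_mul, map_pow]
      ring
    | add s t hs ht =>
      obtain ⟨b, hb1, hb2⟩ := hs
      obtain ⟨c, hc1, hc2⟩ := ht
      exact ⟨b + c, by rw [map_add, hb1, hc1, add_mul],
        by rw [tExp_add, hb2, hc2, rescale_expB_add γ b c hx]⟩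
  obtain ⟨b, hb1, hb2⟩ := key t
  obtain ⟨c, hc1, hc2⟩ := key t'
  apply Additive.toMul.injective
  rw [hb2, hc2]
  ext n
  rw [coeff_rescale, coeff_rescale, coeff_expB]
  rcases Nat.eq_zero_or_pos n with rfl | hn
  · simp
  · obtain ⟨a, ha⟩ := Ideal.mem_span_singleton'.1 (γ.dpow_mem (n := n) (by omega) hx)
    obtain ⟨r, hr⟩ := sub_dvd_pow_sub_pow b c n
    have h0 : (b - c) * algebraMap A B x = 0 := by rw [sub_mul, ← hb1, ← hc1, h, sub_self]
    rw [← sub_eq_zero, ← sub_mul, hr, ← ha, map_mul]
    linear_combination (r * algebraMap A B a) * h0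

end Ext

end Groth.Agent.H27DPow
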