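import Groth.Agent.H27DPow.Extend

/-! Divided powers of a divided power polynomial algebra given by its basis. -/

universe u v w

open Finset PowerSeries

noncomputable section

namespace Groth.Agent.H27DPow

variable {Λ : Type w}

/-- The product of the factorials of the exponents. -/
def efact (e : Λ →₀ ℕ) : ℕ := e.prod fun _ k => k.factorial

lemma efact_pos (e : Λ →₀ ℕ) : 0 < efact e := prod_pos fun _ _ => Nat.factorial_pos _

lemma efact_eq_prod (e : Λ →₀ ℕ) {s : Finset Λ} (h : e.support ⊆ s) :
    efact e = ∏ l ∈ s, (e l).factorial :=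
  e.prod_of_support_subset h _ fun _ _ => Nat.factorial_zero

lemma efact_single (l : Λ) (k : ℕ) : efact (Finsupp.single l k) = k.factorial :=
  Finsupp.prod_single_index Nat.factorial_zero

/-- The structure constants. -/
def mulC (e f : Λ →₀ ℕ) : ℕ := by
  classical exact ∏ l ∈ e.support ∪ f.support, (e l + f l).choose (e l)

lemma mulC_spec (e f : Λ →₀ ℕ) : mulC e f * (efact e * efact f) = efact (e + f) := by
  classical
  rw [mulC, efact_eq_prod e subset_union_left, efact_eq_prod f subset_union_right,
    efact_eq_prod (e + f) Finsupp.support_add, ← prod_mul_distrib, ← prod_mul_distrib]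
  refine prod_congr rfl fun l _ => ?_
  rw [Finsupp.add_apply, ← mul_assoc, Nat.choose_symm_add, Nat.add_choose_mul_factorial_mul_factorial]

lemma pow_fact_dvd (k a : ℕ) : a.factorial ^ k ∣ (k * a).factorial := by
  rcases Nat.eq_zero_or_pos a with rfl | ha
  · simp
  · exact ⟨Nat.uniformBell k a * k.factorial, by
      rw [← Nat.uniformBell_mul_eq k (show a ≠ 0 by omega)]; ring⟩

lemma dpC_dvd {e : Λ →₀ ℕ} (he : e ≠ 0) (n : ℕ) :
    n.factorial * efact e ^ n ∣ efact (n • e) := by
  classical
  obtain ⟨l, hl⟩ := Finsupp.support_nonempty_iff.2 he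
  rw [efact_eq_prod (n • e) Finsupp.support_smul, efact, Finsupp.prod, ← prod_pow,
    ← mul_prod_erase e.support (fun l => (e l).factorial ^ n) hl,
    ← mul_prod_erase e.support (fun l => ((n • e) l).factorial) hl, ← mul_assoc]
  refine mul_dvd_mul ?_ (prod_dvd_prod_of_dvd _ _ fun j _ => ?_)
  · refine ⟨Nat.uniformBell n (e l), ?_⟩
    rw [Finsupp.smul_apply, smul_eq_mul, ← Nat.uniformBell_mul_eq n (Finsupp.mem_support_iff.1 hl)]
    ring
  · simpa using pow_fact_dvd n (e j)

/-- The coefficient of b(n•e) in the n-th divided power of b(e). -/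
def dpC (e : Λ →₀ ℕ) (n : ℕ) : ℕ := efact (n • e) / (n.factorial * efact e ^ n)

lemma dpC_spec {e : Λ →₀ ℕ} (he : e ≠ 0) (n : ℕ) :
    dpC e n * (n.factorial * efact e ^ n) = efact (n • e) := Nat.div_mul_cancel (dpC_dvd he n)

lemma dpC_zero (e : Λ →₀ ℕ) : dpC e 0 = 1 := by simp [dpC, efact]

lemma dpC_one (e : Λ →₀ ℕ) : dpC e 1 = 1 := by simp [dpC, Nat.div_self (efact_pos e)]

section Algebra

variable {R : Type u} [CommRing R] {P : Type v} [CommRing P] [Algebra R P]
  (x : Λ → ℕ → P)

/-- The monomial with exponent e. -/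
def bMon (e : Λ →₀ ℕ) : P := e.prod fun l k => x l k

variable {x} (hx0 : ∀ l, x l 0 = 1)
  (hxmul : ∀ l n m, x l n * x l m = ((n + m).choose n : P) * x l (n + m))

include hx0 in
lemma bMon_single (l : Λ) (k : ℕ) : bMon x (Finsupp.single l k) = x l k :=
  Finsupp.prod_single_index (hx0 l)

lemma bMon_zero : bMon x (0 : Λ →₀ ℕ) = 1 := Finsupp.prod_zero_index

include hx0 hxmul in
lemma bMon_mul (e f : Λ →₀ ℕ) : bMon x e * bMon x f = (mulC e f : P) * bMon x (e + f) := by
  classical
  rw [bMon, bMon, bMon, e.prod_of_support_subset subset_union_left (s := e.support ∪ f.support) _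
      (fun l _ => hx0 l),
    f.prod_of_support_subset subset_union_right (s := e.support ∪ f.support) _ (fun l _ => hx0 l),
    (e + f).prod_of_support_subset Finsupp.support_add _ (fun l _ => hx0 l), mulC, Nat.cast_prod,
    ← prod_mul_distrib, ← prod_mul_distrib]
  exact prod_congr rfl fun l _ => by rw [Finsupp.add_apply, hxmul]

include hx0 hxmul in
lemma bMon_pow (f : Λ →₀ ℕ) (k : ℕ) :
    ∃ c : ℕ, c * efact f ^ k = efact (k • f) ∧ bMon x f ^ k = (c : P) * bMon x (k • f) := by
  induction k with
  | zero => exact ⟨1, by simp [efact], by simp [bMon_zero]⟩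
  | succ k ih =>
    obtain ⟨c, hc, hc'⟩ := ih
    refine ⟨c * mulC (k • f) f, ?_, ?_⟩
    · rw [succ_nsmul, ← mulC_spec, ← hc, pow_succ]; ring
    · rw [pow_succ, hc', mul_assoc, bMon_mul hx0 hxmul, succ_nsmul]; push_cast; ring

/-- The exponential series of a basis element. -/
def bExp (x : Λ → ℕ → P) (e : Λ →₀ ℕ) : PowerSeries P :=
  PowerSeries.mk fun n => (dpC e n : P) * bMon x (n • e)

include hx0 hxmul in
lemma bExp_mul {e : Λ →₀ ℕ} (he : e ≠ 0) (i k : ℕ) :
    coeff i (bExp x e) * coeff k (bExp x e) =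
      ((i + k).choose i : P) * coeff (i + k) (bExp x e) := by
  simp only [bExp, coeff_mk]
  rw [mul_mul_mul_comm, bMon_mul hx0 hxmul, ← add_nsmul, ← mul_assoc, ← mul_assoc,
    ← Nat.cast_mul, ← Nat.cast_mul, ← Nat.cast_mul]
  congr 2
  have h1 := dpC_spec he i
  have h2 := dpC_spec he k
  have h3 := dpC_spec he (i + k)
  have h4 := mulC_spec (i • e) (k • e)
  rw [← h1, ← h2, ← add_nsmul, ← h3, ← Nat.add_choose_mul_factorial_mul_factorial i k,
    ← Nat.choose_symm_add, pow_add] at h4
  have hpos : i.factorial * efact e ^ i * (k.factorial * efact e ^ k) ≠ 0 :=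
    (Nat.mul_pos (Nat.mul_pos (Nat.factorial_pos _) (pow_pos (efact_pos e) _))
      (Nat.mul_pos (Nat.factorial_pos _) (pow_pos (efact_pos e) _))).ne'
  apply mul_right_cancel₀ hpos
  linarith [h4]

/-- Additivity of rescaling for a series with the product rule. -/
lemma rescale_add_of_mul {E : PowerSeries P}
    (hE : ∀ i k, coeff i E * coeff k E = ((i + k).choose i : P) * coeff (i + k) E) (a c : P) :
    rescale (a + c) E = rescale a E * rescale c E := by
  ext n
  simp only [coeff_rescale, coeff_mul]
  rw [(Commute.all a c).add_pow', sum_mul]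
  refine sum_congr rfl fun k hk => ?_
  rw [Finset.HasAntidiagonal.mem_antidiagonal] at hk
  have := hE k.1 k.2
  rw [hk] at this
  rw [nsmul_eq_mul]
  linear_combination -(a ^ k.1 * c ^ k.2) * this

include hx0 hxmul in
lemma bExp_smul {e : Λ →₀ ℕ} (he : e ≠ 0) (f : Λ →₀ ℕ) :
    rescale (bMon x f) (bExp x e) = rescale (mulC f e : P) (bExp x (f + e)) := by
  have hfe : f + e ≠ 0 := fun h => he (Finsupp.ext fun l => by
    have := DFunLike.congr_fun h l
    simp only [Finsupp.add_apply, Finsupp.coe_zero, Pi.zero_apply] at this ⊢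
    omega)
  ext k
  simp only [coeff_rescale, bExp, coeff_mk]
  obtain ⟨c, hc, hc'⟩ := bMon_pow hx0 hxmul f k
  rw [hc', mul_mul_mul_comm, bMon_mul hx0 hxmul, ← nsmul_add, ← mul_assoc, ← mul_assoc,
    ← Nat.cast_pow, ← Nat.cast_mul, ← Nat.cast_mul, ← Nat.cast_mul]
  congr 2
  have h1 := dpC_spec he k
  have h2 := dpC_spec hfe k
  have h3 := mulC_spec (k • f) (k • e)
  have h4 := congrArg (fun t => t ^ k) (mulC_spec f e)
  simp only [mul_pow] at h4
  rw [← nsmul_add, ← h2, ← hc, ← h1, ← h4] at h3
  have hpos : k.factorial * efact e ^ k * efact f ^ k ≠ 0 :=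
    (Nat.mul_pos (Nat.mul_pos (Nat.factorial_pos _) (pow_pos (efact_pos e) _))
      (pow_pos (efact_pos f) _)).ne'
  apply mul_right_cancel₀ hpos
  linarith [h3]

variable (b : Module.Basis (Λ →₀ ℕ) R P) (hb : ∀ e, b e = bMon x e)

/-- The augmentation ideal. -/
def augI (x : Λ → ℕ → P) : Ideal P :=
  Ideal.span {y : P | ∃ (l : Λ) (n : ℕ), 1 ≤ n ∧ y = x l n}

lemma bMon_mem_augI {e : Λ →₀ ℕ} (he : e ≠ 0) : bMon x e ∈ augI x := by
  obtain ⟨l, hl⟩ := Finsupp.support_nonempty_iff.2 he
  refine Ideal.mem_of_dvd _ (Finset.dvd_prod_of_mem _ hl) (Ideal.subset_span ⟨l, e l, ?_, rfl⟩)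
  exact Nat.one_le_iff_ne_zero.2 (Finsupp.mem_support_iff.1 hl)

include hx0 hxmul hb in
lemma repr_zero_of_mem {z : P} (hz : z ∈ augI x) : b.repr z 0 = 0 := by
  suffices ∀ a : P, b.repr (a * z) 0 = 0 by simpa using this 1
  induction hz using Submodule.span_induction with
  | mem y hy =>
    obtain ⟨l, n, hn, rfl⟩ := hy
    intro a
    conv_lhs => rw [← b.linearCombination_repr a, Finsupp.linearCombination_apply, Finsupp.sum,
      sum_mul, map_sum, Finsupp.finsetSum_apply]
    refine sum_eq_zero fun f _ => ?_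
    rw [hb, smul_mul_assoc, ← bMon_single hx0 l n, bMon_mul hx0 hxmul, ← hb, ← nsmul_eq_mul,
      LinearEquiv.map_smul, map_nsmul, b.repr_self]
    have : f + Finsupp.single l n ≠ 0 := fun h => by
      have := DFunLike.congr_fun h l
      simp at this
      omega
    simp [Finsupp.single_eq_of_ne this.symm]
  | zero => intro a; simp
  | add u w _ _ hu hw => intro a; rw [mul_add, map_add, Finsupp.add_apply, hu, hw, add_zero]
  | smul c u _ hu => intro a; rw [smul_eq_mul, ← mul_assoc]; exact hu (a * c)

open Classical in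
/-- The exponential of an element of the augmentation ideal. -/
def pExp (x : Λ → ℕ → P) (b : Module.Basis (Λ →₀ ℕ) R P) (z : P) : PowerSeries P :=
  (b.repr z).prod fun e r => if e = 0 then 1 else rescale (algebraMap R P r) (bExp x e)

include hx0 hxmul in
lemma pExp_add (y z : P) : pExp x b (y + z) = pExp x b y * pExp x b z := by
  rw [pExp, map_add]
  refine Finsupp.prod_add_index' (fun e => ?_) fun e r s => ?_
  · split_ifs with he
    · rfl
    · rw [map_zero, rescale_zero, RingHom.comp_apply, ← coeff_zero_eq_constantCoeff_apply]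
      simp [bExp, dpC_zero, bMon_zero]
  · split_ifs with he
    · rw [mul_one]
    · rw [map_add, rescale_add_of_mul (bExp_mul hx0 hxmul he)]

lemma pExp_zero : pExp x b 0 = 1 := by rw [pExp, map_zero, Finsupp.prod_zero_index]

include hb in
lemma pExp_smul_bMon {e : Λ →₀ ℕ} (he : e ≠ 0) (r : R) :
    pExp x b (r • bMon x e) = rescale (algebraMap R P r) (bExp x e) := by
  rw [pExp, ← hb, LinearEquiv.map_smul, b.repr_self, Finsupp.smul_single, smul_eq_mul, mul_one,
    Finsupp.prod_single_index]
  · rw [if_neg he]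
  · rw [if_neg he, map_zero, rescale_zero, RingHom.comp_apply, ← coeff_zero_eq_constantCoeff_apply]
    simp [bExp, dpC_zero, bMon_zero]

include hx0 hxmul hb in
lemma augI_induction {Q : P → Prop} (h0 : Q 0) (hadd : ∀ y z, y ∈ augI x → z ∈ augI x → Q y → Q z → Q (y + z))
    (hmon : ∀ (r : R) (e : Λ →₀ ℕ), e ≠ 0 → Q (r • bMon x e)) {z : P} (hz : z ∈ augI x) : Q z := by
  classical
  have hz0 := repr_zero_of_mem hx0 hxmul b hb hz
  rw [← b.linearCombination_repr z, Finsupp.linearCombination_apply, Finsupp.sum]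
  have : ∀ s ⊆ (b.repr z).support, Q (∑ e ∈ s, b.repr z e • b e) ∧
      (∑ e ∈ s, b.repr z e • b e) ∈ augI x := by
    intro s
    induction s using Finset.induction with
    | empty => intro _; simp [h0]
    | insert e s he ih =>
      intro hs
      have he0 : e ≠ 0 := fun h => Finsupp.mem_support_iff.1 (hs (mem_insert_self e s)) (h ▸ hz0)
      obtain ⟨h1, h2⟩ := ih fun f hf => hs (mem_insert_of_mem hf)
      have hm : b.repr z e • b e ∈ augI x := by
        rw [hb, Algebra.smul_def]; exact Ideal.mul_mem_left _ _ (bMon_mem_augI he0)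
      rw [sum_insert he]
      exact ⟨hadd _ _ hm h2 (hb e ▸ hmon _ _ he0) h1, add_mem hm h2⟩
  exact (this _ subset_rfl).1

include hx0 hxmul hb in
theorem exists_dividedPowers_augI :
    ∃ γ : DividedPowers (augI x), ∀ (l : Λ) (n : ℕ), γ.dpow n (x l 1) = x l n := by
  classical
  set d : ℕ → P → P := fun n z => if z ∈ augI x then coeff n (pExp x b z) else 0 with hd
  have hdm : ∀ n r e, e ≠ 0 → d n (r • bMon x e) =
      algebraMap R P r ^ n * ((dpC e n : P) * bMon x (n • e)) := by
    intro n r e he
    have hm : r • bMon x e ∈ augI x := by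
      rw [Algebra.smul_def]; exact Ideal.mul_mem_left _ _ (bMon_mem_augI he)
    simp only [hd, if_pos hm]
    rw [pExp_smul_bMon b hb he, coeff_rescale, bExp, coeff_mk]
  have hmul : ∀ (a z : P), z ∈ augI x → pExp x b (a * z) = rescale a (pExp x b z) := by
    intro a z hz
    refine augI_induction hx0 hxmul b hb (Q := fun z => pExp x b (a * z) = rescale a (pExp x b z))
      ?_ ?_ ?_ hz
    · rw [mul_zero, pExp_zero b, map_one]
    · intro y w _ _ hy hw
      rw [mul_add, pExp_add hx0 hxmul b, hy, hw, pExp_add hx0 hxmul b, map_mul]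
    intro r e he
    have hE : ∀ i k, coeff i (pExp x b (r • bMon x e)) * coeff k (pExp x b (r • bMon x e)) =
        ((i + k).choose i : P) * coeff (i + k) (pExp x b (r • bMon x e)) := by
      intro i k
      rw [pExp_smul_bMon b hb he, coeff_rescale, coeff_rescale, coeff_rescale, mul_mul_mul_comm,
        bExp_mul hx0 hxmul he, pow_add]
      ring
    have key : ∀ (s : R) (f : Λ →₀ ℕ), pExp x b ((s • b f) * (r • bMon x e)) =
        rescale (s • b f) (pExp x b (r • bMon x e)) := by
      intro s f
      rw [hb, pExp_smul_bMon b hb he, rescale_rescale, smul_mul_smul_comm, bMon_mul hx0 hxmul,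
        ← nsmul_eq_mul, smul_comm, ← Nat.cast_smul_eq_nsmul R, smul_smul]
      have hfe : f + e ≠ 0 := fun h => he (Finsupp.ext fun l => by
        have := DFunLike.congr_fun h l
        simp only [Finsupp.add_apply, Finsupp.coe_zero, Pi.zero_apply] at this ⊢
        omega)
      rw [pExp_smul_bMon b hb hfe, Algebra.smul_def s,
        show algebraMap R P r * (algebraMap R P s * bMon x f) =
          bMon x f * (algebraMap R P r * algebraMap R P s) by ring,
        ← rescale_rescale, bExp_smul hx0 hxmul he, rescale_rescale]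
      congr 1
      simp [mul_comm]
    rw [← b.linearCombination_repr a, Finsupp.linearCombination_apply, Finsupp.sum]
    induction (b.repr a).support using Finset.induction with
    | empty =>
      rw [sum_empty, zero_mul, pExp_zero b, pExp_smul_bMon b hb he, rescale_rescale, mul_zero,
        rescale_zero, RingHom.comp_apply, ← coeff_zero_eq_constantCoeff_apply]
      simp [bExp, dpC_zero, bMon_zero]
    | insert f t hf ih =>
      rw [sum_insert hf, add_mul, pExp_add hx0 hxmul b, key, ih, rescale_add_of_mul hE]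
  let γ : DividedPowers (augI x) := ofGenerators (d := d)
    {y : P | ∃ (l : Λ) (n : ℕ), 1 ≤ n ∧ y = x l n} rfl
    (fun n z hz => by simp only [hd, if_neg hz])
    (fun z hz => augI_induction hx0 hxmul b hb (Q := fun z => d 0 z = 1)
      (by simp [hd, pExp_zero b])
      (fun y w hy hw iy iw => by
        simp only [hd, if_pos hy, if_pos hw, if_pos (add_mem hy hw)] at iy iw ⊢
        rw [pExp_add hx0 hxmul b, coeff_zero_eq_constantCoeff_apply, map_mul,
          ← coeff_zero_eq_constantCoeff_apply, ← coeff_zero_eq_constantCoeff_apply, iy, iw, mul_one])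
      (fun r e he => by rw [hdm 0 r e he]; simp [dpC_zero, bMon_zero]) hz)
    (fun z hz => augI_induction hx0 hxmul b hb (Q := fun z => d 1 z = z)
      (by simp [hd, pExp_zero b])
      (fun y w hy hw iy iw => by
        have h0 : ∀ u ∈ augI x, constantCoeff (pExp x b u) = 1 := fun u hu =>
          augI_induction hx0 hxmul b hb (Q := fun u => constantCoeff (pExp x b u) = 1)
            (by rw [pExp_zero b, map_one])
            (fun p q _ _ hp hq => by rw [pExp_add hx0 hxmul b, map_mul, hp, hq, mul_one])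
            (fun r e he => by
              rw [pExp_smul_bMon b hb he, ← coeff_zero_eq_constantCoeff_apply, coeff_rescale]
              simp [bExp, dpC_zero, bMon_zero]) hu
        simp only [hd, if_pos hy, if_pos hw, if_pos (add_mem hy hw)] at iy iw ⊢
        rw [pExp_add hx0 hxmul b, coeff_one_mul, h0 y hy, h0 w hw, mul_one, mul_one, iy, iw])
      (fun r e he => by rw [hdm 1 r e he]; simp [dpC_one, Algebra.smul_def]) hz)
    (fun n z hn hz => augI_induction hx0 hxmul b hb (Q := fun z => ∀ n ≠ 0, d n z ∈ augI x)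
      (fun n hn => by simp [hd, pExp_zero b, hn, PowerSeries.coeff_one])
      (fun y w hy hw iy iw n hn => by
        simp only [hd, if_pos hy, if_pos hw, if_pos (add_mem hy hw)] at iy iw ⊢
        rw [pExp_add hx0 hxmul b, coeff_mul]
        refine Submodule.sum_mem _ fun k hk => ?_
        rw [Finset.HasAntidiagonal.mem_antidiagonal] at hk
        by_cases h1 : k.1 = 0
        · exact Ideal.mul_mem_left _ _ (iw _ (by omega))
        · exact Ideal.mul_mem_right _ _ (iy _ h1))
      (fun r e he n hn => by
        rw [hdm n r e he]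
        refine Ideal.mul_mem_left _ _ (Ideal.mul_mem_left _ _ (bMon_mem_augI fun h => he ?_))
        exact Finsupp.ext fun l => by
          have := DFunLike.congr_fun h l
          simpa [hn] using this) hz n hn)
    (fun n y w hy hw => by
      simp only [hd, if_pos hy, if_pos hw, if_pos (add_mem hy hw)]
      rw [pExp_add hx0 hxmul b, coeff_mul])
    (fun n a z hz => by
      simp only [hd, if_pos hz, if_pos (Ideal.mul_mem_left _ a hz)]
      rw [hmul a z hz, coeff_rescale])
    (by
      rintro _ ⟨l, k, hk, rfl⟩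
      set e : Λ →₀ ℕ := Finsupp.single l k
      have he : e ≠ 0 := by simpa [e] using (show k ≠ 0 by omega)
      have hde : ∀ n, d n (x l k) = (dpC e n : P) * bMon x (n • e) := fun n => by
        rw [← bMon_single hx0 l k, ← one_smul R (bMon x e), hdm n 1 e he, map_one, one_pow, one_mul]
      refine ⟨fun m n => ?_, fun m n hn => ?_⟩
      · rw [hde, hde, hde]
        have := bExp_mul hx0 hxmul he m n
        simpa [bExp] using this
      · have hne : n • e ≠ 0 := by simpa [e] using ⟨hn, (show k ≠ 0 by omega)⟩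
        rw [hde, hde, ← nsmul_eq_mul, ← Nat.cast_smul_eq_nsmul R, hdm m _ _ hne, map_natCast,
          ← mul_smul, ← mul_assoc, ← mul_assoc, ← Nat.cast_pow, ← Nat.cast_mul, ← Nat.cast_mul]
        congr 2
        have h1 := congrArg (fun t => t ^ m) (dpC_spec he n)
        simp only [mul_pow] at h1
        have h2 := dpC_spec hne m
        have h3 := dpC_spec he (m * n)
        rw [← mul_smul, ← h1, ← h3, ← Nat.uniformBell_mul_eq m hn] at h2
        have hpos : m.factorial * n.factorial ^ m * (efact e ^ n) ^ m ≠ 0 :=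
          (Nat.mul_pos (Nat.mul_pos (Nat.factorial_pos _) (pow_pos (Nat.factorial_pos _) _))
            (pow_pos (pow_pos (efact_pos e) _) _)).ne'
        apply mul_right_cancel₀ hpos
        rw [← pow_mul, mul_comm n m] at h2 ⊢
        linarith [h2])
  refine ⟨γ, fun l n => ?_⟩
  change d n (x l 1) = _
  rw [← bMon_single hx0 l 1, ← one_smul R (bMon x (Finsupp.single l 1)),
    hdm n 1 _ (by simp)]
  have : dpC (Finsupp.single l 1) n = 1 := by
    rw [dpC, Finsupp.smul_single, smul_eq_mul, mul_one, efact_single, efact_single,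
      Nat.factorial_one, one_pow, mul_one, Nat.div_self (Nat.factorial_pos _)]
  rw [this, map_one, one_pow, Nat.cast_one, one_mul, one_mul, Finsupp.smul_single, smul_eq_mul,
    mul_one, bMon_single hx0]

/-- Uniqueness on generators. -/
theorem augI_unique (γ γ' : DividedPowers (augI x)) (h : ∀ l n, γ.dpow n (x l 1) = x l n)
    (h' : ∀ l n, γ'.dpow n (x l 1) = x l n) : γ = γ' := by
  have hle : augI x ≤ DividedPowers.dpEqualizer γ γ' := by
    refine Ideal.span_le.2 ?_
    rintro _ ⟨l, k, hk, rfl⟩
    have hx1 : x l 1 ∈ augI x := Ideal.subset_span ⟨l, 1, le_rfl, rfl⟩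
    refine (DividedPowers.mem_dpEqualizer_iff γ γ').2 ⟨Ideal.subset_span ⟨l, k, hk, rfl⟩, fun n => ?_⟩
    calc γ.dpow n (x l k) = γ.dpow n (γ.dpow k (x l 1)) := by rw [h]
      _ = γ'.dpow n (γ'.dpow k (x l 1)) := by
        rw [γ.dpow_comp (by omega) hx1, γ'.dpow_comp (by omega) hx1, h, h']
      _ = γ'.dpow n (x l k) := by rw [h']
  exact DividedPowers.ext _ _ fun n z hz => ((DividedPowers.mem_dpEqualizer_iff γ γ').1 (hle hz)).2 n

end Algebra

end Groth.Agent.H27DPow
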