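import Groth.Agent.H27DPow.Free
import Mathlib.RingTheory.DividedPowers.DPMorphism

/-! Universal property and compatibility of divided power polynomial algebras. -/

universe u v w t

open Finset

noncomputable section

namespace Groth.Agent.H27DPow

variable {Λ : Type w} {R : Type u} [CommRing R] {P : Type v} [CommRing P] [Algebra R P]
  {x : Λ → ℕ → P} (hx0 : ∀ l, x l 0 = 1)
  (hxmul : ∀ l n m, x l n * x l m = ((n + m).choose n : P) * x l (n + m))
  (b : Module.Basis (Λ →₀ ℕ) R P) (hb : ∀ e, b e = bMon x e)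

include hx0 hxmul hb in
theorem existsUnique_map (γ : DividedPowers (augI x)) (hγ : ∀ l n, γ.dpow n (x l 1) = x l n)
    {S : Type t} [CommRing S] [Algebra R S] (J : Ideal S) (δ : DividedPowers J)
    (s : Λ → S) (hs : ∀ l, s l ∈ J) :
    ∃! φ : P →ₐ[R] S, γ.IsDPMorphism δ φ.toRingHom ∧ ∀ l, φ (x l 1) = s l := by
  classical
  set y : Λ → ℕ → S := fun l n => δ.dpow n (s l) with hy
  have hy0 : ∀ l, y l 0 = 1 := fun l => δ.dpow_zero (hs l)
  have hymul : ∀ l n m, y l n * y l m = ((n + m).choose n : S) * y l (n + m) :=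
    fun l n m => δ.mul_dpow (hs l)
  set f : P →ₗ[R] S := b.constr ℕ (bMon y) with hf
  have hfb : ∀ e, f (bMon x e) = bMon y e := fun e => by rw [← hb, hf, b.constr_basis]
  have hf1 : f 1 = 1 := by rw [← bMon_zero (x := x), hfb, bMon_zero]
  have hfmul : ∀ p q, f (p * q) = f p * f q := by
    have h : (LinearMap.mul R P).compr₂ f = (LinearMap.mul R S).compl₁₂ f f := by
      refine b.ext fun e => b.ext fun e' => ?_
      simp only [LinearMap.compr₂_apply, LinearMap.compl₁₂_apply, LinearMap.mul_apply', hb]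
      rw [bMon_mul hx0 hxmul, ← nsmul_eq_mul, map_nsmul, hfb, hfb, hfb, bMon_mul hy0 hymul,
        nsmul_eq_mul]
    exact fun p q => LinearMap.congr_fun (LinearMap.congr_fun h p) q
  let φ : P →ₐ[R] S := AlgHom.ofLinearMap f hf1 hfmul
  have hφx : ∀ l n, φ (x l n) = y l n := fun l n => by
    change f (x l n) = _
    rw [← bMon_single hx0 l n, hfb, bMon_single hy0]
  have hmor : γ.IsDPMorphism δ φ.toRingHom := by
    refine DividedPowers.IsDPMorphism.on_span γ δ rfl ?_ ?_
    · rintro _ ⟨l, n, hn, rfl⟩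
      change φ (x l n) ∈ J
      rw [hφx]
      exact δ.dpow_mem (by omega) (hs l)
    · rintro n _ ⟨l, k, hk, rfl⟩
      change φ (γ.dpow n (x l k)) = δ.dpow n (φ (x l k))
      have hx1 : x l 1 ∈ augI x := Ideal.subset_span ⟨l, 1, le_rfl, rfl⟩
      conv_lhs => rw [← hγ l k, γ.dpow_comp (by omega) hx1, hγ, map_mul, map_natCast, hφx]
      rw [hφx, hy]
      exact (δ.dpow_comp (by omega) (hs l)).symm
  refine ⟨φ, ⟨hmor, fun l => by rw [hφx]; exact δ.dpow_one (hs l)⟩, fun ψ ⟨hψ, hψ1⟩ => ?_⟩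
  refine AlgHom.toLinearMap_injective (b.ext fun e => ?_)
  simp only [AlgHom.toLinearMap_apply, hb, bMon, Finsupp.prod, map_prod]
  refine prod_congr rfl fun l _ => ?_
  have hx1 : x l 1 ∈ augI x := Ideal.subset_span ⟨l, 1, le_rfl, rfl⟩
  rw [hφx, ← hγ l (e l)]
  have := hψ.map_dpow (n := e l) hx1
  change ψ (γ.dpow (e l) (x l 1)) = δ.dpow (e l) (ψ (x l 1)) at this
  rw [this, hψ1]

include hx0 hxmul hb in
theorem existsUnique_compatible {I : Ideal R} (γ : DividedPowers I)
    (δp : DividedPowers (augI x)) :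
    ∃! δ : DividedPowers (I.map (algebraMap R P) ⊔ augI x),
      γ.IsDPMorphism δ (algebraMap R P) ∧
        ∀ (n : ℕ) (y : P), y ∈ augI x → δ.dpow n y = δp.dpow n y := by
  classical
  haveI : Module.Free R P := Module.Free.of_basis b
  obtain ⟨γ', hγ'⟩ := exists_extension_of_flat (B := P) γ
  have hcoord : ∀ y ∈ I.map (algebraMap R P), ∀ e, b.repr y e ∈ I := by
    intro y hy e
    suffices ∀ a : P, b.repr (a * y) e ∈ I by simpa using this 1
    induction hy using Submodule.span_induction with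
    | mem w hw =>
      obtain ⟨r, hr, rfl⟩ := hw
      intro a
      rw [mul_comm, ← Algebra.smul_def, LinearEquiv.map_smul, Finsupp.smul_apply, smul_eq_mul]
      exact I.mul_mem_right _ hr
    | zero => intro a; simp
    | add u w _ _ hu hw => intro a; rw [mul_add, map_add, Finsupp.add_apply]; exact add_mem (hu a) (hw a)
    | smul c u _ hu => intro a; rw [smul_eq_mul, ← mul_assoc]; exact hu (a * c)
  have hagree : ∀ (n : ℕ) (y : P), y ∈ I.map (algebraMap R P) ⊓ augI x →
      γ'.dpow n y = δp.dpow n y := by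
    intro n y hy
    refine γ'.coincide_on_smul δp ?_
    rw [smul_eq_mul]
    have h0 := repr_zero_of_mem hx0 hxmul b hb hy.2
    rw [← b.linearCombination_repr y, Finsupp.linearCombination_apply, Finsupp.sum]
    refine Submodule.sum_mem _ fun e he => ?_
    rw [hb, Algebra.smul_def]
    refine Ideal.mul_mem_mul (Ideal.mem_map_of_mem (algebraMap R P) (hcoord y hy.1 e)) ?_
    exact bMon_mem_augI fun h => Finsupp.mem_support_iff.1 he (h ▸ h0)
  obtain ⟨δ, h1, h2⟩ := exists_sup γ' δp hagree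
  refine ⟨δ, ⟨⟨le_sup_left, fun {n} a ha => ?_⟩, h2⟩, fun ε ⟨he1, he2⟩ => ?_⟩
  · rw [h1 n _ (Ideal.mem_map_of_mem _ ha)]
    exact hγ'.2 a ha
  · have hle : I.map (algebraMap R P) ⊔ augI x ≤ DividedPowers.dpEqualizer ε δ := by
      refine sup_le ?_ fun y hy => (DividedPowers.mem_dpEqualizer_iff ε δ).2
        ⟨Submodule.mem_sup_right hy, fun n => by rw [he2 n y hy, h2 n y hy]⟩
      refine Ideal.map_le_iff_le_comap.2 fun a ha => (DividedPowers.mem_dpEqualizer_iff ε δ).2
        ⟨Submodule.mem_sup_left (Ideal.mem_map_of_mem _ ha), fun n => ?_⟩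
      rw [he1.2 a ha, h1 n _ (Ideal.mem_map_of_mem _ ha)]
      exact (hγ'.2 a ha).symm
    exact DividedPowers.ext _ _ fun n y hy =>
      ((DividedPowers.mem_dpEqualizer_iff ε δ).1 (hle hy)).2 n

end Groth.Agent.H27DPow
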