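import Groth.Agent.H27DPow.Criterion
import Mathlib.Data.Nat.Choose.Lucas

/-! Divided powers and the prime p; torsion free rings. -/

universe u

open Finset

noncomputable section

namespace Groth.Agent.H27DPow

variable {A : Type u} [CommRing A]

/-- In a torsion free ring, divided powers are unique. -/
lemma eq_of_torsionFree [IsAddTorsionFree A] {I : Ideal A} (γ δ : DividedPowers I) : γ = δ :=
  DividedPowers.ext _ _ fun n x hx => by
    have h := (γ.factorial_mul_dpow_eq_pow (n := n) hx).trans (δ.factorial_mul_dpow_eq_pow hx).symm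
    rw [← nsmul_eq_mul, ← nsmul_eq_mul] at h
    exact IsAddTorsionFree.nsmul_right_injective (Nat.factorial_ne_zero n) h

theorem exists_of_torsionFree [IsAddTorsionFree A] (I : Ideal A) (S : Set A)
    (hS : Ideal.span S = I) (h : ∀ x ∈ S, ∀ n, 1 ≤ n → ∃ y ∈ I, (n.factorial : A) * y = x ^ n) :
    Nonempty (DividedPowers I) := by
  classical
  have hcancel : ∀ {k : ℕ} {u v : A}, k ≠ 0 → (k : A) * u = (k : A) * v → u = v := fun hk e => by
    rw [← nsmul_eq_mul, ← nsmul_eq_mul] at e
    exact IsAddTorsionFree.nsmul_right_injective hk e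
  have hall : ∀ x ∈ I, ∀ n : ℕ, ∃ y, (n.factorial : A) * y = x ^ n ∧ (n ≠ 0 → y ∈ I) := by
    intro x hx
    rw [← hS] at hx
    induction hx using Submodule.span_induction with
    | mem z hz =>
      intro n
      rcases Nat.eq_zero_or_pos n with rfl | hn
      · exact ⟨1, by simp, fun h => absurd rfl h⟩
      · obtain ⟨y, hy, e⟩ := h z hz n hn
        exact ⟨y, e, fun _ => hy⟩
    | zero =>
      intro n
      rcases Nat.eq_zero_or_pos n with rfl | hn
      · exact ⟨1, by simp, fun h => absurd rfl h⟩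
      · exact ⟨0, by simp [zero_pow (show n ≠ 0 by omega)], fun _ => I.zero_mem⟩
    | add a b _ _ iha ihb =>
      intro n
      choose u hu hu' using iha
      choose v hv hv' using ihb
      refine ⟨∑ k ∈ Finset.HasAntidiagonal.antidiagonal n, u k.1 * v k.2, ?_, fun hn => ?_⟩
      · rw [(Commute.all a b).add_pow', mul_sum]
        refine sum_congr rfl fun k hk => ?_
        rw [Finset.HasAntidiagonal.mem_antidiagonal] at hk
        subst hk
        rw [nsmul_eq_mul, ← hu, ← hv, ← Nat.add_choose_mul_factorial_mul_factorial k.1 k.2,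
          ← Nat.choose_symm_add]
        push_cast
        ring
      · refine Submodule.sum_mem _ fun k hk => ?_
        rw [Finset.HasAntidiagonal.mem_antidiagonal] at hk
        by_cases h1 : k.1 = 0
        · exact Ideal.mul_mem_left _ _ (hv' _ (by omega))
        · exact Ideal.mul_mem_right _ _ (hu' _ h1)
    | smul c z _ ih =>
      intro n
      obtain ⟨y, e, hy⟩ := ih n
      exact ⟨c ^ n * y, by rw [smul_eq_mul, mul_pow, ← e]; ring,
        fun hn => Ideal.mul_mem_left _ _ (hy hn)⟩
  choose! g hg hgI using hall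
  set d : ℕ → A → A := fun n x => if x ∈ I then g x n else 0 with hd
  have hdg : ∀ n, ∀ x ∈ I, (n.factorial : A) * d n x = x ^ n := fun n x hx => by
    simp only [hd, if_pos hx]; exact hg x hx n
  have hdI : ∀ n, ∀ x ∈ I, n ≠ 0 → d n x ∈ I := fun n x hx hn => by
    simp only [hd, if_pos hx]; exact hgI x hx n hn
  refine ⟨⟨d, fun hx => by simp only [hd, if_neg hx], fun {x} hx => ?_, fun {x} hx => ?_,
    fun hn hx => hdI _ _ hx hn, fun {n x y} hx hy => ?_, fun {n a x} hx => ?_, fun {m n x} hx => ?_,
    fun {m n x} hn hx => ?_⟩⟩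
  · simpa using hdg 0 x hx
  · simpa using hdg 1 x hx
  · refine hcancel (Nat.factorial_ne_zero n) ?_
    rw [hdg n _ (add_mem hx hy), (Commute.all x y).add_pow', mul_sum]
    refine sum_congr rfl fun k hk => ?_
    rw [Finset.HasAntidiagonal.mem_antidiagonal] at hk
    subst hk
    rw [nsmul_eq_mul, ← hdg k.1 x hx, ← hdg k.2 y hy,
      ← Nat.add_choose_mul_factorial_mul_factorial k.1 k.2, ← Nat.choose_symm_add]
    push_cast
    ring
  · refine hcancel (Nat.factorial_ne_zero n) ?_
    rw [hdg n _ (Ideal.mul_mem_left _ a hx), mul_pow, ← hdg n x hx]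
    ring
  · refine hcancel (Nat.mul_ne_zero (Nat.factorial_ne_zero m) (Nat.factorial_ne_zero n)) ?_
    have e : ((m + n).choose m * m.factorial * n.factorial : A) = ((m + n).factorial : A) := by
      rw [Nat.choose_symm_add]; exact_mod_cast congrArg (Nat.cast : ℕ → A) (Nat.add_choose_mul_factorial_mul_factorial m n)
    push_cast
    rw [mul_mul_mul_comm, hdg m x hx, hdg n x hx, ← pow_add, ← hdg (m + n) x hx, ← e]
    ring
  · refine hcancel (Nat.mul_ne_zero (Nat.factorial_ne_zero m)
      (pow_ne_zero m (Nat.factorial_ne_zero n))) ?_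
    have e : (Nat.uniformBell m n * (n.factorial : A) ^ m * m.factorial : A) =
        ((m * n).factorial : A) := by
      exact_mod_cast congrArg (Nat.cast : ℕ → A) (Nat.uniformBell_mul_eq m hn)
    push_cast
    rw [mul_assoc, mul_left_comm, hdg m _ (hdI n x hx hn), ← mul_pow, hdg n x hx, ← pow_mul,
      mul_comm n m, ← hdg (m * n) x hx, ← e]
    ring

/-! ### The prime p -/

variable (p : ℕ) [hp : Fact p.Prime]

lemma exists_choose_not_dvd : ∀ n : ℕ, 2 ≤ n → (∀ e, n ≠ p ^ e) →
    ∃ k, 0 < k ∧ k < n ∧ ¬ p ∣ n.choose k := by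
  intro n
  induction n using Nat.strong_induction_on with
  | _ n ih =>
    intro h2 hne
    have hp2 := hp.out.two_le
    by_cases hnp : n % p = 0
    · obtain ⟨m, rfl⟩ := Nat.dvd_of_mod_eq_zero hnp
      have hm : 2 ≤ m := by
        rcases m with _ | _ | m
        · simp at h2
        · exact absurd (by simp : p * (0 + 1) = p ^ 1) (hne 1)
        · omega
      obtain ⟨k, hk0, hkm, hk⟩ := ih m (by nlinarith) hm
        fun e he => hne (e + 1) (by rw [he, pow_succ, mul_comm])
      refine ⟨p * k, Nat.mul_pos hp.out.pos hk0, Nat.mul_lt_mul_of_pos_left hkm hp.out.pos, fun hd => hk ?_⟩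
      exact ((Choose.choose_mul_mul_modEq_choose_nat (p := p) (a := m) (b := k)).dvd_iff
        dvd_rfl).1 hd
    · by_cases hlt : n < p
      · refine ⟨1, one_pos, by omega, fun hd => ?_⟩
        rw [Nat.choose_one_right] at hd
        exact absurd (Nat.le_of_dvd (by omega) hd) (by omega)
      · refine ⟨n % p, Nat.pos_of_ne_zero hnp, lt_of_lt_of_le (Nat.mod_lt _ hp.out.pos) (by omega),
          fun hd => ?_⟩
        have h1 := (Choose.choose_modEq_choose_mod_mul_choose_div_nat (p := p) (n := n)
          (k := n % p))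
        rw [Nat.mod_mod, Nat.choose_self, Nat.div_eq_of_lt (Nat.mod_lt n hp.out.pos),
          Nat.choose_zero_right, mul_one] at h1
        exact hp.out.not_dvd_one ((h1.dvd_iff dvd_rfl).1 hd)

lemma choose_pred_pow (e i : ℕ) : (i * p ^ e + p ^ e - 1).choose (p ^ e - 1) ≡ 1 [MOD p] := by
  induction e with
  | zero => simp; rfl
  | succ e ih =>
    have hp0 := hp.out.pos
    have h1 : 1 ≤ p ^ e := Nat.one_le_pow _ _ hp0
    have ek : p ^ (e + 1) - 1 = (p - 1) + p * (p ^ e - 1) := by
      rw [pow_succ, Nat.mul_sub, mul_one, mul_comm]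
      have := Nat.le_mul_of_pos_right p h1
      omega
    have en : i * p ^ (e + 1) + p ^ (e + 1) - 1 = (p - 1) + p * (i * p ^ e + p ^ e - 1) := by
      have e1 : p * (i * p ^ e + p ^ e - 1) + p = p * (i * p ^ e + p ^ e) := by
        rw [← Nat.mul_succ, Nat.succ_eq_add_one, Nat.sub_add_cancel (by omega)]
      have e2 : p * (i * p ^ e + p ^ e) = i * p ^ (e + 1) + p ^ (e + 1) := by ring
      omega
    have h := (Choose.choose_modEq_choose_mod_mul_choose_div_nat (p := p)
      (n := (p - 1) + p * (i * p ^ e + p ^ e - 1)) (k := (p - 1) + p * (p ^ e - 1)))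
    rw [Nat.add_mul_mod_self_left, Nat.add_mul_mod_self_left, Nat.add_mul_div_left _ _ hp0,
      Nat.add_mul_div_left _ _ hp0, Nat.mod_eq_of_lt (show p - 1 < p by omega),
      Nat.div_eq_of_lt (show p - 1 < p by omega), Nat.choose_self, one_mul, zero_add, zero_add] at h
    rw [en, ek]
    exact h.trans ih

lemma not_dvd_uniformBell (e : ℕ) : ¬ p ∣ Nat.uniformBell p (p ^ e) := by
  rw [Nat.uniformBell_eq, hp.out.prime.dvd_finsetProd_iff]
  rintro ⟨i, -, hi⟩
  exact hp.out.not_dvd_one (((choose_pred_pow p e i).dvd_iff dvd_rfl).1 hi)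

theorem eq_iff_dpow_prime (hA : ∀ n : ℕ, ¬ p ∣ n → IsUnit (n : A)) {I : Ideal A}
    (γ γ' : DividedPowers I) : γ = γ' ↔ ∀ x ∈ I, γ.dpow p x = γ'.dpow p x := by
  refine ⟨fun h x _ => by rw [h], fun h => DividedPowers.ext _ _ fun n => ?_⟩
  induction n using Nat.strong_induction_on with
  | _ n ih =>
    intro x hx
    by_cases hn : n < 2
    · rcases n with _ | n
      · rw [γ.dpow_zero hx, γ'.dpow_zero hx]
      · obtain rfl : n = 0 := by omega
        rw [γ.dpow_one hx, γ'.dpow_one hx]
    · by_cases hpow : ∃ e, n = p ^ e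
      · obtain ⟨e, rfl⟩ := hpow
        rcases e with _ | e
        · simp at hn
        · have h1 : p ^ e ≠ 0 := pow_ne_zero _ hp.out.ne_zero
          have hlt : p ^ e < p ^ (e + 1) := Nat.pow_lt_pow_right hp.out.one_lt (by omega)
          refine (hA _ (not_dvd_uniformBell p e)).mul_left_cancel ?_
          rw [pow_succ', ← γ.dpow_comp h1 hx, ← γ'.dpow_comp h1 hx, ih _ hlt hx]
          exact h _ (γ'.dpow_mem h1 hx)
      · push Not at hpow
        obtain ⟨k, hk0, hkn, hk⟩ := exists_choose_not_dvd p n (by omega) hpow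
        refine (hA _ hk).mul_left_cancel ?_
        rw [show n = k + (n - k) by omega, ← γ.mul_dpow hx, ← γ'.mul_dpow hx, ih k hkn hx,
          ih (n - k) (by omega) hx]

end Groth.Agent.H27DPow
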