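import Groth.Agent.H27DPow.Criterion
import Groth.Agent.H27DPow.Prime
import Mathlib.Data.Nat.Prime.Factorial

/-! Divided powers from the p-th divided power. -/

universe u

open Finset

noncomputable section

namespace Groth.Agent.H27DPow

variable {A : Type u} [CommRing A]

section Aux

/-- B(n, p) in terms of factorials. -/
lemma bell_spec' (m n : ℕ) (hn : n ≠ 0) :
    (Nat.uniformBell m n : ℚ) * (n.factorial : ℚ) ^ m * m.factorial = ((m * n).factorial : ℚ) := by
  exact_mod_cast Nat.uniformBell_mul_eq m hn

lemma choose_spec' (i j : ℕ) :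
    ((i + j).choose i : ℚ) * i.factorial * j.factorial = ((i + j).factorial : ℚ) := by
  rw [Nat.choose_symm_add]
  exact_mod_cast Nat.add_choose_mul_factorial_mul_factorial i j

variable (p : ℕ) [hp : Fact p.Prime]

/-- The weight of the recursion. -/
def wgt (n : ℕ) : ℕ := n.choose (n % p) * Nat.uniformBell (n / p) p

lemma wgt_spec (q r : ℕ) (hr : r < p) :
    (wgt p (r + p * q) : ℚ) * r.factorial * (p.factorial : ℚ) ^ q * q.factorial =
      ((r + p * q).factorial : ℚ) := by
  have hp0 := hp.out.pos
  rw [wgt, Nat.add_mul_mod_self_left, Nat.mod_eq_of_lt hr, Nat.add_mul_div_left _ _ hp0,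
    Nat.div_eq_of_lt hr, zero_add]
  push_cast
  have h1 := bell_spec' q p hp.out.ne_zero
  have h2 := choose_spec' r (p * q)
  rw [mul_comm q p] at h1
  linear_combination ((r + p * q).choose r : ℚ) * (r.factorial : ℚ) * h1 + h2

lemma not_dvd_wgt (n : ℕ) : ¬ p ∣ wgt p n := by
  rw [wgt, hp.out.dvd_mul, not_or]
  constructor
  · intro hd
    have h1 := Choose.choose_modEq_choose_mod_mul_choose_div_nat (p := p) (n := n) (k := n % p)
    rw [Nat.mod_mod, Nat.choose_self, Nat.div_eq_of_lt (Nat.mod_lt n hp.out.pos),
      Nat.choose_zero_right, mul_one] at h1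
    exact hp.out.not_dvd_one ((h1.dvd_iff dvd_rfl).1 hd)
  · rw [Nat.uniformBell_eq, hp.out.prime.dvd_finsetProd_iff]
    rintro ⟨i, -, hi⟩
    have h1 := choose_pred_pow p 1 i
    rw [pow_one] at h1
    exact hp.out.not_dvd_one ((h1.dvd_iff dvd_rfl).1 hi)

lemma not_dvd_factorial {i : ℕ} (hi : i < p) : ¬ p ∣ i.factorial := fun h =>
  absurd ((Nat.Prime.dvd_factorial hp.out).1 h) (by omega)

variable {p}

/-- Sequences with the product rule compatible with d at prime powers agree. -/
lemma seq_unique (hA : ∀ n : ℕ, ¬ p ∣ n → IsUnit (n : A)) {d : A → A} {s t : ℕ → A}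
    (hs : ∀ i k, s i * s k = ((i + k).choose i : A) * s (i + k))
    (ht : ∀ i k, t i * t k = ((i + k).choose i : A) * t (i + k))
    (h0 : s 0 = t 0) (h1 : s 1 = t 1)
    (hsd : ∀ e, d (s (p ^ e)) = (Nat.uniformBell p (p ^ e) : A) * s (p ^ (e + 1)))
    (htd : ∀ e, d (t (p ^ e)) = (Nat.uniformBell p (p ^ e) : A) * t (p ^ (e + 1))) (n : ℕ) :
    s n = t n := by
  induction n using Nat.strong_induction_on with
  | _ n ih =>
    by_cases hn : n < 2
    · rcases n with _ | n
      · exact h0
      · obtain rfl : n = 0 := by omega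
        exact h1
    · by_cases hpow : ∃ e, n = p ^ e
      · obtain ⟨e, rfl⟩ := hpow
        rcases e with _ | e
        · exact h1
        · refine (hA _ (not_dvd_uniformBell p e)).mul_left_cancel ?_
          rw [← hsd, ← htd, ih _ (Nat.pow_lt_pow_right hp.out.one_lt (by omega))]
      · push Not at hpow
        obtain ⟨k, hk0, hkn, hk⟩ := exists_choose_not_dvd p n (by omega) hpow
        refine (hA _ hk).mul_left_cancel ?_
        rw [show n = k + (n - k) by omega, ← hs, ← ht, ih k hkn, ih (n - k) (by omega)]

end Aux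

variable (p : ℕ) [hp : Fact p.Prime] (d : A → A)

omit hp in
/-- The candidate divided powers. -/
def cpow [hpf : Fact p.Prime] (n : ℕ) (x : A) : A :=
  if n < p then Ring.inverse (n.factorial : A) * x ^ n
  else Ring.inverse (wgt p n : A) *
    (Ring.inverse ((n % p).factorial : A) * x ^ (n % p) * cpow (n / p) (d x))
termination_by n
decreasing_by exact Nat.div_lt_self (by have := hpf.out.pos; omega) hpf.out.one_lt

variable {p d}

section Props

variable (hA : ∀ n : ℕ, ¬ p ∣ n → IsUnit (n : A))

include hA in
lemma factorial_mul_cpow {n : ℕ} (hn : n < p) (x : A) :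
    (n.factorial : A) * cpow p d n x = x ^ n := by
  rw [cpow, if_pos hn, ← mul_assoc, Ring.mul_inverse_cancel _ (hA _ (not_dvd_factorial p hn)),
    one_mul]

lemma cpow_zero (x : A) : cpow p d 0 x = 1 := by
  rw [cpow, if_pos hp.out.pos]; simp

lemma cpow_one (x : A) : cpow p d 1 x = x := by
  rw [cpow, if_pos hp.out.one_lt]; simp

include hA in
lemma wgt_mul_cpow {q r : ℕ} (hr : r < p) (x : A) :
    (wgt p (r + p * q) : A) * cpow p d (r + p * q) x = cpow p d r x * cpow p d q (d x) := by
  have hp0 := hp.out.pos
  rcases Nat.eq_zero_or_pos q with rfl | hq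
  · rw [mul_zero, add_zero, cpow_zero, mul_one, wgt, Nat.mod_eq_of_lt hr, Nat.choose_self,
      Nat.div_eq_of_lt hr, Nat.uniformBell_zero_left]
    simp
  · have hlt : ¬ r + p * q < p := by
      have := Nat.le_mul_of_pos_right p hq
      omega
    conv_lhs => rw [cpow, if_neg hlt]
    rw [← mul_assoc, Ring.mul_inverse_cancel _ (hA _ (not_dvd_wgt p _)), one_mul,
      Nat.add_mul_mod_self_left, Nat.mod_eq_of_lt hr, Nat.add_mul_div_left _ _ hp0,
      Nat.div_eq_of_lt hr, zero_add]
    congr 1
    rw [cpow, if_pos hr]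

include hA in
lemma cpow_p (x : A) : cpow p d p x = d x := by
  have h := wgt_mul_cpow (d := d) hA (q := 1) (r := 0) hp.out.pos x
  rw [zero_add, mul_one, cpow_zero, one_mul, cpow_one, wgt, Nat.mod_self, Nat.choose_zero_right,
    Nat.div_self hp.out.pos, Nat.uniformBell_one_left] at h
  simpa using h

variable {I : Ideal A} (hdI : ∀ x ∈ I, d x ∈ I) (h1 : ∀ x ∈ I, (p.factorial : A) * d x = x ^ p)
  (h2 : ∀ (a x : A), x ∈ I → d (a * x) = a ^ p * d x)

include hA hdI h1 in
lemma cpow_mul_cpow : ∀ (N i k : ℕ), i + k = N → ∀ x ∈ I,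
    cpow p d i x * cpow p d k x = (N.choose i : A) * cpow p d N x := by
  intro N
  induction N using Nat.strong_induction_on with
  | _ N ih =>
    intro i k hik x hx
    have hp2 := hp.out.two_le
    rcases Nat.eq_zero_or_pos i with rfl | hi
    · rw [zero_add] at hik; subst hik; rw [cpow_zero, Nat.choose_zero_right]; simp
    rcases Nat.eq_zero_or_pos k with rfl | hk
    · rw [add_zero] at hik; subst hik; rw [cpow_zero, Nat.choose_self]; simp
    obtain ⟨q, r, hr, rfl⟩ : ∃ q r, r < p ∧ i = r + p * q :=
      ⟨i / p, i % p, Nat.mod_lt _ hp.out.pos, (Nat.mod_add_div i p).symm⟩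
    obtain ⟨q', r', hr', rfl⟩ : ∃ q r, r < p ∧ k = r + p * q :=
      ⟨k / p, k % p, Nat.mod_lt _ hp.out.pos, (Nat.mod_add_div k p).symm⟩
    have hu : IsUnit ((r.factorial * r'.factorial * wgt p (r + p * q) * wgt p (r' + p * q') : ℕ) : A) := by
      apply hA
      simp only [hp.out.dvd_mul, not_or]
      exact ⟨⟨⟨not_dvd_factorial p hr, not_dvd_factorial p hr'⟩, not_dvd_wgt p _⟩, not_dvd_wgt p _⟩
    refine hu.mul_left_cancel ?_
    have hQlt : q + q' < N := by
      have e1 : 2 * q ≤ p * q := Nat.mul_le_mul_right q hp2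
      have e2 : 2 * q' ≤ p * q' := Nat.mul_le_mul_right q' hp2
      omega
    have hLHS : ((r.factorial * r'.factorial * wgt p (r + p * q) * wgt p (r' + p * q') : ℕ) : A) *
        (cpow p d (r + p * q) x * cpow p d (r' + p * q') x) =
        x ^ (r + r') * (((q + q').choose q : A) * cpow p d (q + q') (d x)) := by
      rw [← ih (q + q') hQlt q q' rfl _ (hdI x hx), pow_add, ← factorial_mul_cpow (d := d) hA hr x,
        ← factorial_mul_cpow (d := d) hA hr' x]
      have a1 := wgt_mul_cpow (d := d) hA (q := q) hr x
      have a2 := wgt_mul_cpow (d := d) hA (q := q') hr' x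
      push_cast
      linear_combination
        ((r.factorial : A) * r'.factorial * (wgt p (r' + p * q') : A) * cpow p d (r' + p * q') x) * a1 +
        ((r.factorial : A) * r'.factorial * (cpow p d r x * cpow p d q (d x))) * a2
    rw [hLHS]
    by_cases hR : r + r' < p
    · have hN : N = (r + r') + p * (q + q') := by rw [← hik]; ring
      rw [← factorial_mul_cpow (d := d) hA hR x]
      have a3 := wgt_mul_cpow (d := d) hA (q := q + q') hR x
      rw [← hN] at a3
      have hnat : (r + r').factorial * (q + q').choose q * wgt p N =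
          r.factorial * r'.factorial * wgt p (r + p * q) * wgt p (r' + p * q') *
            N.choose (r + p * q) := by
        have b1 := wgt_spec p q r hr
        have b2 := wgt_spec p q' r' hr'
        have b3 := wgt_spec p (q + q') (r + r') hR
        rw [← hN] at b3
        have b4 := choose_spec' (r + p * q) (r' + p * q')
        rw [show r + p * q + (r' + p * q') = N from hik] at b4
        have b5 := choose_spec' q q'
        qify
        have hne : (q.factorial : ℚ) * q'.factorial * (p.factorial : ℚ) ^ (q + q') ≠ 0 := by positivity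
        apply mul_right_cancel₀ hne
        rw [← b1, ← b2] at b4
        rw [pow_add] at b3 ⊢
        linear_combination ((r + r').factorial : ℚ) * (wgt p N : ℚ) *
          ((p.factorial : ℚ) ^ q * (p.factorial : ℚ) ^ q') * b5 + b3 - b4
      have hc := congrArg (Nat.cast : ℕ → A) hnat
      push_cast at hc ⊢
      linear_combination (-((r + r').factorial : A) * ((q + q').choose q : A)) * a3 +
        cpow p d N x * hc
    · obtain ⟨s, hs, hRs⟩ : ∃ s, s < p ∧ r + r' = s + p := ⟨r + r' - p, by omega, by omega⟩
      have hN : N = s + p * (q + q' + 1) := by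
        rw [← hik]
        calc r + p * q + (r' + p * q') = (r + r') + p * (q + q') := by ring
          _ = _ := by rw [hRs]; ring
      have hQ1 : q + q' + 1 < N := by
        rw [hN]
        have := Nat.mul_le_mul_right (q + q' + 1) hp2
        omega
      have a4 := ih (q + q' + 1) hQ1 1 (q + q') (by omega) _ (hdI x hx)
      rw [cpow_one, Nat.choose_one_right] at a4
      have a3 := wgt_mul_cpow (d := d) hA (q := q + q' + 1) hs x
      rw [← hN] at a3
      have hnat : s.factorial * p.factorial * (q + q').choose q * (q + q' + 1) * wgt p N =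
          r.factorial * r'.factorial * wgt p (r + p * q) * wgt p (r' + p * q') *
            N.choose (r + p * q) := by
        have b1 := wgt_spec p q r hr
        have b2 := wgt_spec p q' r' hr'
        have b3 := wgt_spec p (q + q' + 1) s hs
        rw [← hN] at b3
        have b4 := choose_spec' (r + p * q) (r' + p * q')
        rw [show r + p * q + (r' + p * q') = N from hik] at b4
        have b5 := choose_spec' q q'
        qify
        have hne : (q.factorial : ℚ) * q'.factorial * (p.factorial : ℚ) ^ (q + q') ≠ 0 := by positivity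
        apply mul_right_cancel₀ hne
        rw [← b1, ← b2] at b4
        rw [Nat.factorial_succ, Nat.cast_mul] at b3
        push_cast at b3
        rw [pow_succ, pow_add] at b3
        rw [pow_add]
        linear_combination (s.factorial : ℚ) * p.factorial * ((q : ℚ) + q' + 1) * (wgt p N : ℚ) *
          ((p.factorial : ℚ) ^ q * (p.factorial : ℚ) ^ q') * b5 + b3 - b4
      rw [hRs, pow_add, ← h1 x hx, ← factorial_mul_cpow (d := d) hA hs x]
      have hc := congrArg (Nat.cast : ℕ → A) hnat
      push_cast at hc a4 ⊢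
      linear_combination ((s.factorial : A) * p.factorial * ((q + q').choose q : A) * cpow p d s x) * a4 +
        (-(s.factorial : A) * p.factorial * ((q + q').choose q : A) * ((q : A) + q' + 1)) * a3 +
        cpow p d N x * hc

include hdI in
lemma cpow_mem : ∀ n, n ≠ 0 → ∀ x ∈ I, cpow p d n x ∈ I := by
  intro n
  induction n using Nat.strong_induction_on with
  | _ n ih =>
    intro hn x hx
    rw [cpow]
    split_ifs with h
    · exact Ideal.mul_mem_left _ _ (Ideal.pow_mem_of_mem _ hx _ (Nat.pos_of_ne_zero hn))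
    · refine Ideal.mul_mem_left _ _ ?_
      by_cases hr : n % p = 0
      · exact Ideal.mul_mem_left _ _ (ih _ (Nat.div_lt_self (by omega) hp.out.one_lt)
          (Nat.div_pos (by omega) hp.out.pos).ne' _ (hdI x hx))
      · exact Ideal.mul_mem_right _ _
          (Ideal.mul_mem_left _ _ (Ideal.pow_mem_of_mem _ hx _ (Nat.pos_of_ne_zero hr)))

include hA hdI h2 in
lemma cpow_smul : ∀ n, ∀ (a : A), ∀ x ∈ I, cpow p d n (a * x) = a ^ n * cpow p d n x := by
  intro n
  induction n using Nat.strong_induction_on with
  | _ n ih =>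
    intro a x hx
    by_cases hn : n < p
    · rw [cpow, if_pos hn, cpow, if_pos hn, mul_pow]; ring
    · obtain ⟨q, r, hr, rfl⟩ : ∃ q r, r < p ∧ n = r + p * q :=
        ⟨n / p, n % p, Nat.mod_lt _ hp.out.pos, (Nat.mod_add_div n p).symm⟩
      have hq : q < r + p * q := by
        have : 0 < q := Nat.pos_of_ne_zero (by rintro rfl; omega)
        have := Nat.mul_lt_mul_of_pos_right hp.out.one_lt this
        omega
      refine (hA _ (not_dvd_wgt p (r + p * q))).mul_left_cancel ?_
      have hs : cpow p d r (a * x) = a ^ r * cpow p d r x := by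
        refine (hA _ (not_dvd_factorial p hr)).mul_left_cancel ?_
        rw [mul_left_comm, factorial_mul_cpow hA hr, factorial_mul_cpow hA hr, mul_pow]
      rw [mul_left_comm, wgt_mul_cpow hA hr, wgt_mul_cpow hA hr, h2 a x hx,
        ih q hq _ _ (hdI x hx), hs, ← pow_mul, pow_add]
      ring

include hA hdI h1 h2 in
lemma d_cpow : ∀ (N : ℕ), 1 ≤ N → ∀ x ∈ I,
    d (cpow p d N x) = (Nat.uniformBell p N : A) * cpow p d (p * N) x := by
  intro N
  induction N using Nat.strong_induction_on with
  | _ N ih =>
    intro hN x hx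
    obtain ⟨q, r, hr, rfl⟩ : ∃ q r, r < p ∧ N = r + p * q :=
      ⟨N / p, N % p, Nat.mod_lt _ hp.out.pos, (Nat.mod_add_div N p).symm⟩
    have hp0 : p ≠ 0 := hp.out.ne_zero
    have hBN : (Nat.uniformBell (r + p * q) p : A) * cpow p d (p * (r + p * q)) x =
        cpow p d (r + p * q) (d x) := by
      have h := wgt_mul_cpow (d := d) hA (q := r + p * q) (r := 0) hp.out.pos x
      rw [zero_add, cpow_zero, one_mul, wgt, Nat.mul_mod_right, Nat.choose_zero_right,
        Nat.mul_div_cancel_left _ hp.out.pos, one_mul] at h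
      exact h
    have hmem : cpow p d (r + p * q) x ∈ I := cpow_mem hdI _ (by omega) x hx
    rcases Nat.eq_zero_or_pos r with rfl | hr0
    · simp only [zero_add] at hBN hmem hN ⊢
      have hq1 : 1 ≤ q := Nat.pos_of_ne_zero (by rintro rfl; simp at hN)
      have hqlt : q < p * q := lt_mul_of_one_lt_left hq1 hp.out.one_lt
      refine ((hA _ (not_dvd_wgt p (0 + p * q))).pow p).mul_left_cancel ?_
      rw [← h2 _ _ hmem]
      have e := wgt_mul_cpow (d := d) hA (q := q) (r := 0) hp.out.pos x
      rw [cpow_zero, one_mul] at e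
      simp only [zero_add] at e ⊢
      rw [e, ih q (by omega) hq1 _ (hdI x hx), ← hBN]
      have hnat : Nat.uniformBell p q * Nat.uniformBell (p * q) p =
          wgt p (p * q) ^ p * Nat.uniformBell p (p * q) := by
        have b1 := bell_spec' p q (by omega)
        have b2 := bell_spec' (p * q) p hp0
        have b3 := bell_spec' p (p * q) (Nat.mul_ne_zero hp0 (by omega))
        have b4 := wgt_spec p q 0 hp.out.pos
        simp only [zero_add, Nat.factorial_zero, Nat.cast_one, mul_one] at b4
        rw [mul_comm (p * q) p] at b2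
        qify
        have hne : ((q.factorial : ℚ) ^ p * p.factorial) *
            ((p.factorial : ℚ) ^ (p * q)) ≠ 0 := by positivity
        apply mul_right_cancel₀ hne
        rw [← b4, mul_pow, mul_pow, ← pow_mul, mul_comm q p] at b3
        linear_combination (Nat.uniformBell (p * q) p : ℚ) * (p.factorial : ℚ) ^ (p * q) * b1 + b2 - b3
      have hc := congrArg (Nat.cast : ℕ → A) hnat
      push_cast at hc
      linear_combination cpow p d (p * (p * q)) x * hc
    · have hu : IsUnit ((wgt p (r + p * q) * r.factorial : ℕ) : A) := hA _ (by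
        rw [hp.out.dvd_mul, not_or]; exact ⟨not_dvd_wgt p _, not_dvd_factorial p hr⟩)
      refine (hu.pow p).mul_left_cancel ?_
      rw [← h2 _ _ hmem]
      have e1 : ((wgt p (r + p * q) * r.factorial : ℕ) : A) * cpow p d (r + p * q) x =
          (cpow p d q (d x) * x ^ (r - 1)) * x := by
        rw [mul_assoc (cpow p d q (d x)), ← pow_succ, show r - 1 + 1 = r by omega,
          ← factorial_mul_cpow (d := d) hA hr x]
        push_cast
        linear_combination (r.factorial : A) * wgt_mul_cpow (d := d) hA (q := q) hr x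
      rw [e1, h2 _ _ hx, mul_pow, ← pow_mul]
      have hpw : ∀ j, 1 ≤ j → ∃ K : ℕ, (K : ℚ) * (q.factorial : ℚ) ^ j = ((j * q).factorial : ℚ) ∧
          cpow p d q (d x) ^ j = (K : A) * cpow p d (j * q) (d x) := by
        intro j hj
        induction j, hj using Nat.le_induction with
        | base => exact ⟨1, by simp, by simp⟩
        | succ j hj ihj =>
          obtain ⟨K, hK, hK'⟩ := ihj
          refine ⟨K * (j * q + q).choose (j * q), ?_, ?_⟩
          · rw [Nat.succ_mul, ← choose_spec' (j * q) q, ← hK]; push_cast; ring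
          · rw [pow_succ, hK', mul_assoc, cpow_mul_cpow hA hdI h1 _ _ _ rfl _ (hdI x hx), Nat.succ_mul]
            push_cast; ring
      obtain ⟨K, hK, hK'⟩ := hpw p hp.out.one_lt.le
      have e2 : x ^ ((r - 1) * p) * d x = (p.factorial : A) ^ (r - 1) * (r.factorial : A) *
          cpow p d r (d x) := by
        rw [mul_comm (r - 1) p, pow_mul, ← h1 x hx, mul_assoc, factorial_mul_cpow hA hr, mul_pow,
          mul_assoc, ← pow_succ, show r - 1 + 1 = r by omega]
      rw [mul_assoc, e2, hK']
      have e3 := cpow_mul_cpow hA hdI h1 _ r (p * q) rfl _ (hdI x hx)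
      have hnat : (wgt p (r + p * q) * r.factorial) ^ p * Nat.uniformBell p (r + p * q) =
          K * p.factorial ^ (r - 1) * r.factorial * (r + p * q).choose r *
            Nat.uniformBell (r + p * q) p := by
        have b1 := bell_spec' p (r + p * q) (by omega)
        have b2 := bell_spec' (r + p * q) p hp0
        have b4 := wgt_spec p q r hr
        have b5 := choose_spec' r (p * q)
        rw [mul_comm (r + p * q) p] at b2
        qify
        have hne : (q.factorial : ℚ) ^ p * ((p.factorial : ℚ) ^ (p * q + 1)) ≠ 0 := by positivity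
        apply mul_right_cancel₀ hne
        rw [← b4, ← b2] at b1
        have e : p.factorial ^ (r - 1) * p.factorial = p.factorial ^ r := by
          rw [← pow_succ, show r - 1 + 1 = r by omega]
        have e' : (p.factorial : ℚ) ^ (r - 1) * p.factorial = (p.factorial : ℚ) ^ r := by
          exact_mod_cast e
        rw [mul_pow, mul_pow, mul_pow, ← pow_mul, mul_comm q p] at b1
        rw [pow_succ, mul_pow]
        rw [show (p.factorial : ℚ) ^ (r + p * q) =
          (p.factorial : ℚ) ^ (r - 1) * p.factorial * (p.factorial : ℚ) ^ (p * q) by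
            rw [e', pow_add], ← b5, ← hK] at b1
        linear_combination b1
      have hc := congrArg (Nat.cast : ℕ → A) hnat
      push_cast at hc ⊢
      linear_combination ((K : A) * (p.factorial : A) ^ (r - 1) * r.factorial) * e3 +
        (-(K : A) * (p.factorial : A) ^ (r - 1) * r.factorial * ((r + p * q).choose r : A)) * hBN +
        (-cpow p d (p * (r + p * q)) x) * hc

include hA hdI h1 h2 in
lemma cpow_comp {m n : ℕ} (hn : n ≠ 0) {x : A} (hx : x ∈ I) :
    cpow p d m (cpow p d n x) = (Nat.uniformBell m n : A) * cpow p d (m * n) x := by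
  have hy : cpow p d n x ∈ I := cpow_mem hdI n hn x hx
  refine seq_unique (s := fun m => cpow p d m (cpow p d n x))
    (t := fun m => (Nat.uniformBell m n : A) * cpow p d (m * n) x) hA (d := d)
    (fun i k => cpow_mul_cpow hA hdI h1 _ _ _ rfl _ hy) (fun i k => ?_) ?_ ?_ (fun e => ?_)
    (fun e => ?_) m
  · rw [mul_mul_mul_comm, cpow_mul_cpow hA hdI h1 _ _ _ rfl _ hx, ← Nat.add_mul]
    have hnat : Nat.uniformBell i n * Nat.uniformBell k n * ((i + k) * n).choose (i * n) =
        (i + k).choose i * Nat.uniformBell (i + k) n := by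
      have b1 := bell_spec' i n hn
      have b2 := bell_spec' k n hn
      have b3 := bell_spec' (i + k) n hn
      have b4 := choose_spec' i k
      have b5 := choose_spec' (i * n) (k * n)
      rw [← Nat.add_mul, ← b1, ← b2] at b5
      qify
      have hne : (n.factorial : ℚ) ^ (i + k) * (i.factorial * k.factorial) ≠ 0 := by positivity
      apply mul_right_cancel₀ hne
      rw [pow_add] at b3 ⊢
      linear_combination b5 - b3 -
        (Nat.uniformBell (i + k) n : ℚ) * ((n.factorial : ℚ) ^ i * (n.factorial : ℚ) ^ k) * b4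
    have hc := congrArg (Nat.cast : ℕ → A) hnat
    push_cast at hc
    linear_combination cpow p d ((i + k) * n) x * hc
  · simp [cpow_zero, Nat.uniformBell_zero_left]
  · simp [cpow_one, Nat.uniformBell_one_left]
  · rw [d_cpow hA hdI h1 h2 _ (Nat.one_le_pow _ _ hp.out.pos) _ hy, pow_succ']
  · have hpe : p ^ e ≠ 0 := pow_ne_zero _ hp.out.ne_zero
    rw [h2 _ _ (cpow_mem hdI _ (Nat.mul_ne_zero hpe hn) x hx),
      d_cpow hA hdI h1 h2 _ (Nat.pos_of_ne_zero (Nat.mul_ne_zero hpe hn)) _ hx, pow_succ' p e,
      mul_assoc p]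
    have hnat : Nat.uniformBell (p ^ e) n ^ p * Nat.uniformBell p (p ^ e * n) =
        Nat.uniformBell p (p ^ e) * Nat.uniformBell (p * p ^ e) n := by
      have b1 := bell_spec' (p ^ e) n hn
      have b2 := bell_spec' p (p ^ e * n) (Nat.mul_ne_zero hpe hn)
      have b3 := bell_spec' p (p ^ e) hpe
      have b4 := bell_spec' (p * p ^ e) n hn
      rw [← b1] at b2
      rw [mul_assoc p (p ^ e) n] at b4
      qify
      have hne : ((n.factorial : ℚ) ^ (p * p ^ e)) *
          (((p ^ e).factorial : ℚ) ^ p * p.factorial) ≠ 0 := by positivity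
      apply mul_right_cancel₀ hne
      rw [mul_pow, mul_pow, ← pow_mul, mul_comm (p ^ e) p] at b2
      linear_combination b2 -
        (Nat.uniformBell (p * p ^ e) n : ℚ) * (n.factorial : ℚ) ^ (p * p ^ e) * b3 - b4
    have hc := congrArg (Nat.cast : ℕ → A) hnat
    push_cast at hc
    linear_combination cpow p d (p * (p ^ e * n)) x * hc

variable (h3 : ∀ x ∈ I, ∀ y ∈ I, d (x + y) = d x + d y +
      ((Finset.HasAntidiagonal.antidiagonal p).filter fun k => 0 < k.1 ∧ 0 < k.2).sum
        fun k => Ring.inverse ((k.1.factorial * k.2.factorial : ℕ) : A) * x ^ k.1 * y ^ k.2)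

include hA h3 in
lemma cpow_add_le {n : ℕ} (hn : n ≤ p) {x y : A} (hx : x ∈ I) (hy : y ∈ I) :
    cpow p d n (x + y) =
      ∑ k ∈ Finset.HasAntidiagonal.antidiagonal n, cpow p d k.1 x * cpow p d k.2 y := by
  rcases hn.lt_or_eq with hn | rfl
  · refine (hA _ (not_dvd_factorial p hn)).mul_left_cancel ?_
    rw [factorial_mul_cpow hA hn, (Commute.all x y).add_pow', mul_sum]
    refine sum_congr rfl fun k hk => ?_
    rw [Finset.HasAntidiagonal.mem_antidiagonal] at hk
    rw [← factorial_mul_cpow (d := d) hA (show k.1 < p by omega) x,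
      ← factorial_mul_cpow (d := d) hA (show k.2 < p by omega) y, nsmul_eq_mul]
    subst hk
    rw [← Nat.add_choose_mul_factorial_mul_factorial k.1 k.2, ← Nat.choose_symm_add]
    push_cast
    ring
  · rw [cpow_p hA, h3 x hx y hy,
      ← sum_filter_add_sum_filter_not (Finset.HasAntidiagonal.antidiagonal n)
        (fun k => 0 < k.1 ∧ 0 < k.2)]
    have e1 : (Finset.HasAntidiagonal.antidiagonal n).filter (fun k => ¬(0 < k.1 ∧ 0 < k.2)) =
        {(0, n), (n, 0)} := by
      ext ⟨a, b⟩
      simp only [mem_filter, Finset.HasAntidiagonal.mem_antidiagonal, mem_insert, mem_singleton,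
        Prod.mk.injEq]
      constructor
      · rintro ⟨h, h'⟩
        rcases Nat.eq_zero_or_pos a with ha | ha
        · left; omega
        · right; omega
      · rintro (⟨rfl, rfl⟩ | ⟨rfl, rfl⟩) <;> simp
    rw [e1, sum_pair (by simp [hp.out.ne_zero, eq_comm])]
    simp only [cpow_zero, cpow_p hA, one_mul, mul_one]
    rw [add_comm (d y) (d x), add_comm (d x + d y)]
    congr 1
    refine sum_congr rfl fun k hk => ?_
    rw [mem_filter, Finset.HasAntidiagonal.mem_antidiagonal] at hk
    rw [← factorial_mul_cpow (d := d) hA (show k.1 < n by omega) x,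
      ← factorial_mul_cpow (d := d) hA (show k.2 < n by omega) y]
    have hu : IsUnit ((k.1.factorial * k.2.factorial : ℕ) : A) := hA _ (by
      rw [hp.out.dvd_mul, not_or]
      exact ⟨not_dvd_factorial n (by omega), not_dvd_factorial n (by omega)⟩)
    rw [mul_assoc, mul_mul_mul_comm (k.1.factorial : A), ← Nat.cast_mul, ← mul_assoc,
      Ring.inverse_mul_cancel _ hu, one_mul]

include hA hdI h1 h2 h3 in
lemma cpow_add (n : ℕ) {x y : A} (hx : x ∈ I) (hy : y ∈ I) :
    cpow p d n (x + y) =
      ∑ k ∈ Finset.HasAntidiagonal.antidiagonal n, cpow p d k.1 x * cpow p d k.2 y := by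
  set X0 : Mdl := MvPolynomial.X 0
  set Y0 : Mdl := MvPolynomial.X 1
  set c : ℕ → A → A := cpow p d
  set e : ℕ → A := fun m => ∑ k ∈ Finset.HasAntidiagonal.antidiagonal m, c k.1 x * c k.2 y with he
  have hmx : ∀ i k, c i x * c k x = ((i + k).choose i : A) * c (i + k) x :=
    fun i k => cpow_mul_cpow hA hdI h1 _ _ _ rfl _ hx
  have hmy : ∀ i k, c i y * c k y = ((i + k).choose i : A) * c (i + k) y :=
    fun i k => cpow_mul_cpow hA hdI h1 _ _ _ rfl _ hy
  have hs : ∀ m, Rel c x y (D.dpow m (X0 + Y0)) (e m) := fun m => by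
    rw [D.dpow_add Submodule.mem_top Submodule.mem_top]
    exact Rel.sum _ _ _ fun q _ => Rel.mon q
  have hone : Rel c x y 1 1 := by
    have := Rel.mon (d := c) (x := x) (y := y) (0, 0)
    simpa [mon, D.dpow_zero, c, cpow_zero] using this
  have hY : ∀ j, Rel c x y (D.dpow j Y0) (c j y) := fun j => by
    simpa [mon, D.dpow_zero, c, cpow_zero, X0] using Rel.mon (d := c) (x := x) (y := y) (0, j)
  have hX : ∀ i, Rel c x y (D.dpow i X0) (c i x) := fun i => by
    simpa [mon, D.dpow_zero, c, cpow_zero, Y0] using Rel.mon (d := c) (x := x) (y := y) (i, 0)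
  refine seq_unique (s := fun m => c m (x + y)) (t := e) hA (d := d)
    (fun i k => cpow_mul_cpow hA hdI h1 _ _ _ rfl _ (add_mem hx hy)) (fun i k => ?_) ?_ ?_
    (fun m => ?_) (fun m => ?_) n
  · have h5 := Rel.mul hmx hmy (hs i) (hs k)
    rw [D.mul_dpow Submodule.mem_top] at h5
    exact h5.unique ((hs (i + k)).natMul _)
  · simp [he, c, cpow_zero]
  · simp only [he, c]
    rw [show (Finset.HasAntidiagonal.antidiagonal 1 : Finset (ℕ × ℕ)) = {(0, 1), (1, 0)} by rfl,
      sum_pair (by simp)]
    simp [cpow_zero, cpow_one, add_comm]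
  · rw [d_cpow hA hdI h1 h2 _ (Nat.one_le_pow _ _ hp.out.pos) _ (add_mem hx hy), pow_succ']
  · set M := p ^ m
    have hM : M ≠ 0 := pow_ne_zero _ hp.out.ne_zero
    set a : ℕ × ℕ → A := fun q => c q.1 x * c q.2 y
    set P : ℕ × ℕ → Mdl := fun q => D.dpow q.1 X0 * D.dpow q.2 Y0
    have key : ∀ s ⊆ Finset.HasAntidiagonal.antidiagonal M,
        (∑ q ∈ s, a q) ∈ I ∧ ∀ j ≤ p, Rel c x y (D.dpow j (∑ q ∈ s, P q)) (c j (∑ q ∈ s, a q)) := by
      intro s
      induction s using Finset.induction with
      | empty =>
        intro _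
        refine ⟨by simp, fun j _ => ?_⟩
        rw [sum_empty, sum_empty]
        rcases Nat.eq_zero_or_pos j with rfl | hj
        · simpa [D.dpow_zero, c, cpow_zero] using hone
        · rw [D.dpow_eval_zero (by omega)]
          have h0 : c j 0 = 0 := by
            have := cpow_smul hA hdI h2 j 0 x hx
            rwa [zero_mul, zero_pow (by omega), zero_mul] at this
          rw [h0]
          exact Rel.zero
      | insert q s hq ih =>
        intro hsub
        obtain ⟨hsI, hsR⟩ := ih fun j hj => hsub (mem_insert_of_mem hj)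
        have hqM := hsub (mem_insert_self q s)
        rw [Finset.HasAntidiagonal.mem_antidiagonal] at hqM
        have haI : a q ∈ I ∧ ∀ j, Rel c x y (D.dpow j (P q)) (c j (a q)) := by
          by_cases h : q.1 = 0
          · refine ⟨I.mul_mem_left _ (cpow_mem hdI _ (by omega) y hy), fun j => ?_⟩
            simp only [P, a, h, D.dpow_zero Submodule.mem_top, c, cpow_zero, one_mul]
            rw [D.dpow_comp (by omega) Submodule.mem_top, cpow_comp hA hdI h1 h2 (by omega) hy]
            exact (hY _).natMul _
          · have hxI : c q.1 x ∈ I := cpow_mem hdI q.1 h x hx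
            refine ⟨I.mul_mem_right _ hxI, fun j => ?_⟩
            simp only [P, a]
            rw [mul_comm (D.dpow q.1 X0), mul_comm (c q.1 x), D.dpow_mul Submodule.mem_top,
              show c j (c q.2 y * c q.1 x) = _ from cpow_smul hA hdI h2 j _ _ hxI,
              D.dpow_comp h Submodule.mem_top,
              show cpow p d j (c q.1 x) = _ from cpow_comp hA hdI h1 h2 h hx]
            exact Rel.mul hmx hmy (Rel.pow hmx hmy (hY _) hone j) ((hX _).natMul _)
        rw [sum_insert hq, sum_insert hq]
        refine ⟨add_mem haI.1 hsI, fun j hj => ?_⟩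
        rw [D.dpow_add Submodule.mem_top Submodule.mem_top, show c j (a q + ∑ i ∈ s, a i) = _ from
          cpow_add_le hA h3 hj haI.1 hsI]
        refine Rel.sum _ _ _ fun k hk => ?_
        rw [Finset.HasAntidiagonal.mem_antidiagonal] at hk
        exact Rel.mul hmx hmy (haI.2 _) (hsR _ (by omega))
    have hL := (key _ subset_rfl).2 p le_rfl
    rw [← D.dpow_add Submodule.mem_top Submodule.mem_top, D.dpow_comp hM Submodule.mem_top] at hL
    have hR := (hs (p * M)).natMul (Nat.uniformBell p M)
    rw [show p ^ (m + 1) = p * M from pow_succ' p m, ← hL.unique hR]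
    exact (cpow_p hA _).symm

include hA hdI h1 h2 h3 in
theorem exists_of_prime : ∃ γ : DividedPowers I, ∀ x ∈ I, γ.dpow p x = d x := by
  classical
  refine ⟨{
    dpow := fun n x => if x ∈ I then cpow p d n x else 0
    dpow_null := fun hx => if_neg hx
    dpow_zero := fun hx => by rw [if_pos hx, cpow_zero]
    dpow_one := fun hx => by rw [if_pos hx, cpow_one]
    dpow_mem := fun hn hx => by rw [if_pos hx]; exact cpow_mem hdI _ hn _ hx
    dpow_add := fun {n x y} hx hy => by
      simp only [if_pos hx, if_pos hy, if_pos (add_mem hx hy)]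
      exact cpow_add hA hdI h1 h2 h3 n hx hy
    dpow_mul := fun {n a x} hx => by
      simp only [if_pos hx, if_pos (Ideal.mul_mem_left _ a hx)]
      exact cpow_smul hA hdI h2 n a x hx
    mul_dpow := fun {m n x} hx => by
      simp only [if_pos hx]
      exact cpow_mul_cpow hA hdI h1 _ _ _ rfl _ hx
    dpow_comp := fun {m n x} hn hx => by
      simp only [if_pos hx, if_pos (cpow_mem hdI n hn x hx)]
      exact cpow_comp hA hdI h1 h2 hn hx }, fun x hx => ?_⟩
  simp only [if_pos hx]
  exact cpow_p hA x

end Props

end Groth.Agent.H27DPow
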