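import Mathlib.RingTheory.WittVector.Truncated
import Mathlib.RingTheory.WittVector.Identities
import Mathlib.RingTheory.DividedPowers.Basic
import Mathlib.RingTheory.Ideal.Quotient.Operations
import Mathlib.Tactic

/-! The map θ from truncated Witt vectors. -/

universe u

open Finset

noncomputable section

namespace Groth.Agent.H27DPow

variable {p : ℕ} [hp : Fact p.Prime]

lemma ghost_apply' {B : Type u} [CommRing B] (n : ℕ) (x : WittVector p B) :
    WittVector.ghostComponent n x =
      ∑ i ∈ range (n + 1), (p : B) ^ i * x.coeff i ^ p ^ (n - i) := by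
  rw [WittVector.ghostComponent_apply, wittPolynomial_eq_sum_C_mul_X_pow, map_sum]
  exact sum_congr rfl fun i _ => by simp

lemma ghost_trunc {B : Type u} [CommRing B] {n : ℕ} (hpn : (p : B) ^ n = 0) (x : WittVector p B) :
    WittVector.ghostComponent n x =
      ∑ i : Fin n, (p : B) ^ (i : ℕ) * x.coeff i ^ p ^ (n - i) := by
  rw [ghost_apply', sum_range_succ, hpn, zero_mul, add_zero,
    Finset.sum_range (fun i => (p : B) ^ i * x.coeff i ^ p ^ (n - i))]

lemma pow_dpIdeal {B : Type u} [CommRing B] {I : Ideal B} (hI : DividedPowers I) {x : B}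
    (hx : x ∈ I) (k : ℕ) : (p : B) ^ k ∣ x ^ p ^ k := by
  rw [← hI.factorial_mul_dpow_eq_pow hx]
  refine dvd_mul_of_dvd_left ?_ _
  rw [← Nat.cast_pow]
  exact Nat.cast_dvd_cast (Nat.dvd_factorial (pow_pos hp.out.pos k) le_rfl)

theorem exists_theta {B : Type u} [CommRing B] {n : ℕ} (hpn : (p : B) ^ n = 0) {I : Ideal B}
    (hI : DividedPowers I) :
    ∃ θ : TruncatedWittVector p n (B ⧸ I) →+* B, ∀ x : WittVector p B,
      θ (WittVector.truncate n (WittVector.map (Ideal.Quotient.mk I) x)) =
        ∑ i : Fin n, (p : B) ^ (i : ℕ) * (x.coeff i) ^ (p ^ (n - i)) := by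
  set π : WittVector p B →+* TruncatedWittVector p n (B ⧸ I) :=
    (WittVector.truncate n).comp (WittVector.map (Ideal.Quotient.mk I))
  have hπ : Function.Surjective π :=
    (WittVector.truncate_surjective p n (B ⧸ I)).comp
      (WittVector.map_surjective _ Ideal.Quotient.mk_surjective)
  have hker : RingHom.ker π ≤ RingHom.ker (WittVector.ghostComponent n : WittVector p B →+* B) := by
    intro x hx
    rw [RingHom.mem_ker] at hx ⊢
    rw [ghost_trunc hpn]
    refine sum_eq_zero fun i _ => ?_
    have hxi : x.coeff i ∈ I := by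
      have := congrArg (TruncatedWittVector.coeff i) hx
      simp only [π, RingHom.comp_apply, WittVector.coeff_truncate, WittVector.map_coeff,
        TruncatedWittVector.coeff_zero] at this
      exact Ideal.Quotient.eq_zero_iff_mem.1 this
    refine eq_zero_of_zero_dvd ?_
    rw [← hpn]
    calc (p : B) ^ n = (p : B) ^ (i : ℕ) * (p : B) ^ (n - i) := by
          rw [← pow_add, Nat.add_sub_cancel' i.isLt.le]
      _ ∣ _ := mul_dvd_mul_left _ (pow_dpIdeal hI hxi _)
  refine ⟨π.liftOfRightInverse (Function.surjInv hπ) (Function.rightInverse_surjInv hπ)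
    ⟨WittVector.ghostComponent n, hker⟩, fun x => ?_⟩
  rw [← ghost_trunc hpn]
  exact π.liftOfRightInverse_comp_apply (Function.surjInv hπ) (Function.rightInverse_surjInv hπ)
    ⟨WittVector.ghostComponent n, hker⟩ x

variable {A : Type u} [CommRing A]

/-- Successive approximation. -/
lemma exists_expansion (hF : Function.Surjective fun y : A ⧸ Ideal.span {(p : A)} => y ^ p)
    (n : ℕ) : ∀ (j k : ℕ), j + k = n → ∀ t : A, ∃ c : ℕ → A,
      (p : A) ^ j * t - ∑ i ∈ range k, (p : A) ^ (j + i) * c (j + i) ^ p ^ (n - (j + i)) ∈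
        Ideal.span {(p : A) ^ n} := by
  have hFk : ∀ (e : ℕ) (z : A ⧸ Ideal.span {(p : A)}), ∃ y, y ^ p ^ e = z := by
    intro e
    induction e with
    | zero => exact fun z => ⟨z, by simp⟩
    | succ e ih =>
      intro z
      obtain ⟨w, hw⟩ := hF z
      obtain ⟨y, hy⟩ := ih w
      exact ⟨y, by rw [pow_succ, pow_mul, hy]; exact hw⟩
  intro j k
  induction k generalizing j with
  | zero =>
    intro hj t
    refine ⟨fun _ => 0, ?_⟩
    rw [sum_range_zero, sub_zero, ← hj, add_zero]
    exact Ideal.mul_mem_right _ _ (Ideal.mem_span_singleton_self _)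
  | succ k ih =>
    intro hj t
    obtain ⟨y, hy⟩ := hFk (n - j) (Ideal.Quotient.mk _ t)
    obtain ⟨y, rfl⟩ := Ideal.Quotient.mk_surjective y
    rw [← map_pow, Ideal.Quotient.eq, Ideal.mem_span_singleton] at hy
    obtain ⟨s, hs⟩ := hy
    obtain ⟨c, hc⟩ := ih (j + 1) (by omega) (-s)
    refine ⟨Function.update c j y, ?_⟩
    rw [sum_range_succ', add_zero, Function.update_self]
    convert hc using 1
    rw [sum_congr rfl fun i _ => show
      (p : A) ^ (j + (i + 1)) * Function.update c j y (j + (i + 1)) ^ p ^ (n - (j + (i + 1))) =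
        (p : A) ^ (j + 1 + i) * c (j + 1 + i) ^ p ^ (n - (j + 1 + i)) by
      rw [Function.update_of_ne (by omega), show j + (i + 1) = j + 1 + i by omega]]
    rw [pow_succ (p : A) j]
    linear_combination -((p : A) ^ j) * hs



lemma natCast_pow_eq_zero_of_hom {n : ℕ} {k : Type*} [CommRing k] [CharP k p]
    (f : TruncatedWittVector p n k →+* A) : (p : A) ^ n = 0 := by
  rw [← map_natCast f, ← map_pow]
  convert map_zero f
  rw [← map_natCast (WittVector.truncate (p := p) (R := k) n), ← map_pow]
  ext i
  rw [WittVector.coeff_truncate, TruncatedWittVector.coeff_zero]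
  have h := WittVector.mul_pow_charP_coeff_zero (p := p) (R := k) 1 i.isLt
  rwa [one_mul] at h

end Groth.Agent.H27DPow
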